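import Cfsg.Agent.RudNormal.Transfer
import Cfsg.Agent.FGSB.Rudvalis.Automorphism
import Cfsg.Agent.HSUniq.Setup
import Mathlib.Algebra.Module.ZMod

/-!
The normalizer of `W` induces the whole of `GL(3, 2)` on the Frattini subgroup of `W`.
-/

set_option autoImplicit false
set_option linter.unusedSectionVars false
set_option linter.style.haveILetI false

namespace CfsgLib.RudNormal

open Subgroup CfsgLib.Rudvalis
open scoped commutatorElement

variable {G : Type*} [Group G] [Finite G] {T : Sylow 2 G} {W : Subgroup ↥(T : Subgroup G)}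

/-- The normalizer of `W`. -/
abbrev nW (W : Subgroup ↥(T : Subgroup G)) : Subgroup G := normalizer (wg W : Set G)

theorem conj_mem_wg {g w : G} (hg : g ∈ nW W) (hw : w ∈ wg W) : g * w * g⁻¹ ∈ wg W :=
  (mem_normalizer_iff.1 hg w).1 hw

theorem zg_eq (h : Rud W) : zg W = ⁅wg W, wg W⁆ := by
  rw [zg, phi, h.frattini_eq_commutator, wg, ← map_commutator, _root_.commutator, map_commutator,
    map_commutator, ← MonoidHom.range_eq_map, range_subtype, ← map_commutator]

theorem conj_mem_zg (h : Rud W) {g z : G} (hg : g ∈ nW W) (hz : z ∈ zg W) : g * z * g⁻¹ ∈ zg W := by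
  have he : (wg W).map (MulAut.conj g).toMonoidHom = wg W := by
    refine eq_of_le_of_card_ge ?_ ?_
    · rintro _ ⟨u, hu, rfl⟩
      exact conj_mem_wg hg hu
    · rw [card_map_of_injective (MulAut.conj g).injective]
  have h1 : g * z * g⁻¹ ∈ (zg W).map (MulAut.conj g).toMonoidHom := ⟨z, hz, rfl⟩
  rw [zg_eq h, map_commutator, he] at h1
  rwa [zg_eq h]

theorem cent_zg_T (h : Rud W) {t : G} (ht : t ∈ (T : Subgroup G))
    (hc : ∀ z ∈ zg W, t * z = z * t) : t ∈ wg W := by
  refine ⟨⟨t, ht⟩, (SetLike.ext_iff.1 h.w_eq _).2 (mem_centralizer_iff.2 fun a ha => Subtype.ext ?_), rfl⟩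
  exact (hc a ⟨a, h.phi_eq.symm ▸ ha, rfl⟩).symm

/-- Coordinates of the Frattini subgroup of `W`. -/
noncomputable def eZ (h : Rud W) (Fr : Frame W) : (Fin 3 → ZMod 2) ≃ ↥(zg W) :=
  Equiv.ofBijective (fun v => ⟨(Fr.E (v 0, v 1, v 2) : G), Fr.E (v 0, v 1, v 2),
    h.phi_eq.symm ▸ Fr.E_mem _, rfl⟩) ⟨fun u v e => by
      have h0 : ((Fr.E (u 0, u 1, u 2) : ↥(T : Subgroup G)) : G) = (Fr.E (v 0, v 1, v 2) : ↥(T : Subgroup G)) :=
        congrArg (fun z : ↥(zg W) => (z : G)) e
      have h1 := Fr.E_inj (Subtype.ext h0)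
      simp only [Prod.mk.injEq] at h1
      funext i
      fin_cases i <;> tauto, fun z => by
      obtain ⟨a, ha, e⟩ := z.2
      obtain ⟨v, rfl⟩ := Fr.E_surj a (h.phi_eq ▸ ha)
      exact ⟨![v.1, v.2.1, v.2.2], Subtype.ext e⟩⟩

theorem eZ_add (h : Rud W) (Fr : Frame W) (u v : Fin 3 → ZMod 2) :
    ((eZ h Fr (u + v) : ↥(zg W)) : G) = (eZ h Fr u : G) * (eZ h Fr v : G) :=
  congrArg Subtype.val (Fr.E_add (u 0, u 1, u 2) (v 0, v 1, v 2))

/-- The matrix of an element of the normalizer. -/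
noncomputable def act (h : Rud W) (Fr : Frame W) (g : ↥(nW W)) :
    Module.End (ZMod 2) (Fin 3 → ZMod 2) :=
  AddMonoidHom.toZModLinearMap 2
    (AddMonoidHom.mk' (fun v => (eZ h Fr).symm ⟨g * (eZ h Fr v : G) * (g : G)⁻¹,
      conj_mem_zg h g.2 (eZ h Fr v).2⟩) fun u v => by
      apply (eZ h Fr).injective
      apply Subtype.ext
      simp only [eZ_add, Equiv.apply_symm_apply]
      group)

theorem eZ_act (h : Rud W) (Fr : Frame W) (g : ↥(nW W)) (v : Fin 3 → ZMod 2) :
    ((eZ h Fr (act h Fr g v) : ↥(zg W)) : G) = g * (eZ h Fr v : G) * (g : G)⁻¹ :=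
  (congrArg Subtype.val ((eZ h Fr).apply_symm_apply
    ⟨g * (eZ h Fr v : G) * (g : G)⁻¹, conj_mem_zg h g.2 (eZ h Fr v).2⟩) :)

/-- The action of the normalizer of `W` on its Frattini subgroup. -/
noncomputable def rho (h : Rud W) (Fr : Frame W) : ↥(nW W) →* GL (Fin 3) (ZMod 2) :=
  MonoidHom.toHomUnits
    { toFun := fun g => LinearMap.toMatrixAlgEquiv' (act h Fr g)
      map_one' := by
        rw [show act h Fr 1 = 1 from LinearMap.ext fun v => (eZ h Fr).injective
          (Subtype.ext (by rw [eZ_act]; simp)), map_one]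
      map_mul' := fun a b => by
        rw [← map_mul]
        refine congrArg _ (LinearMap.ext fun v => (eZ h Fr).injective (Subtype.ext ?_))
        rw [eZ_act, Module.End.mul_apply, eZ_act, eZ_act]
        simp [mul_assoc] }

theorem rho_eq_one_iff (h : Rud W) (Fr : Frame W) (g : ↥(nW W)) :
    rho h Fr g = 1 ↔ ∀ z ∈ zg W, (g : G) * z = z * g := by
  have key : rho h Fr g = 1 ↔ act h Fr g = 1 := by
    rw [← LinearMap.toMatrixAlgEquiv'.injective.eq_iff, map_one]
    exact ⟨fun e => congrArg Units.val e, fun e => Units.ext e⟩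
  rw [key]
  constructor
  · intro e z hz
    have h1 := eZ_act h Fr g ((eZ h Fr).symm ⟨z, hz⟩)
    rw [e, Module.End.one_apply, Equiv.apply_symm_apply] at h1
    calc (g : G) * z = g * z * (g : G)⁻¹ * g := by group
      _ = z * g := by rw [← h1]
  · intro e
    refine LinearMap.ext fun v => (eZ h Fr).injective (Subtype.ext ?_)
    rw [eZ_act, e _ (eZ h Fr v).2, Module.End.one_apply, mul_inv_cancel_right]

/-- A homomorphism onto a group of order two from a subgroup of index two. -/
theorem exists_hom {X : Type*} [Group X] (K : Subgroup X) (hK : K.index = 2) :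
    ∃ θ : X →* Multiplicative (ZMod 2), θ ≠ 1 := by
  classical
  refine ⟨MonoidHom.mk' (fun x => Multiplicative.ofAdd (if x ∈ K then (0 : ZMod 2) else 1))
    (fun x y => ?_), fun e => ?_⟩
  · rw [← ofAdd_add]
    congr 1
    have := mul_mem_iff_of_index_two hK (a := x) (b := y)
    by_cases hx : x ∈ K <;> by_cases hy : y ∈ K <;> simp_all [show (1 + 1 : ZMod 2) = 0 from rfl]
  · obtain ⟨x, hx⟩ : ∃ x, x ∉ K := by
      by_contra hc
      push Not at hc
      rw [(eq_top_iff' K).2 hc, index_top] at hK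
      norm_num at hK
    have := congrArg Multiplicative.toAdd (DFunLike.congr_fun e x)
    simp [hx] at this

private theorem perm_three : ∀ {α : Type} [Fintype α] [DecidableEq α], Fintype.card α = 3 →
    ∀ σ : Equiv.Perm α, σ ^ 8 = 1 → Equiv.Perm.sign σ = 1 → σ = 1 := by
  intro α _ _ hα σ h8 hs
  let e := (Fintype.equivFinOfCardEq hα).permCongrHom
  have key : ∀ σ : Equiv.Perm (Fin 3), σ ^ 8 = 1 → Equiv.Perm.sign σ = 1 → σ = 1 := by decide +kernel
  have h1 : e σ = 1 := by
    refine key _ (by rw [← map_pow, h8, map_one]) ?_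
    rw [← hs]
    exact Equiv.Perm.sign_permCongr (Fintype.equivFinOfCardEq hα) σ
  exact e.injective (h1.trans (map_one e).symm)

/-- The Sylow 2-subgroup of `G` inside the normalizer of `W`. -/
noncomputable abbrev tN (h : Rud W) : Sylow 2 ↥(nW W) := T.subtype (wg_normalized h)

/-- A subgroup above `T` that contains the centralizer of `T` is its own normalizer. -/
theorem self_norm (h : Rud W) {K : Subgroup ↥(nW W)} (hTK : (tN h : Subgroup ↥(nW W)) ≤ K)
    (hK : ∀ o : ↥(nW W), (∀ t ∈ (T : Subgroup G), (o : G) * t = t * o) → o ∈ K)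
    (x : ↥(nW W)) (hx : ∀ y ∈ (tN h : Subgroup ↥(nW W)), x * y * x⁻¹ ∈ K) : x ∈ K := by
  haveI : Fact (Nat.Prime 2) := ⟨Nat.prime_two⟩
  set TN : Sylow 2 ↥(nW W) := tN h with hTN
  have hxK : ((x • TN : Sylow 2 ↥(nW W)) : Subgroup ↥(nW W)) ≤ K := by
    rintro _ ⟨y, hy, rfl⟩
    exact hx y hy
  obtain ⟨k, hk⟩ := MulAction.exists_smul_eq ↥K ((x • TN).subtype hxK) (TN.subtype hTK)
  have hk' : ((k : ↥(nW W)) * x) • TN = TN := by
    rw [mul_smul]
    refine Sylow.subtype_injective (hP := by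
      rintro _ ⟨y, hy, rfl⟩
      exact K.mul_mem (K.mul_mem k.2 (hxK hy)) (K.inv_mem k.2)) (hQ := hTK) ?_
    exact (Sylow.smul_subtype hxK k).symm.trans hk
  set y : ↥(nW W) := (k : ↥(nW W)) * x with hy
  have hyn : y ∈ normalizer ((TN : Subgroup ↥(nW W)) : Set ↥(nW W)) := Sylow.smul_eq_iff_mem_normalizer.1 hk'
  have hyT : ∀ u : G, u ∈ (T : Subgroup G) → (y : G) * u * (y : G)⁻¹ ∈ (T : Subgroup G) := fun u hu =>
    (mem_normalizer_iff.1 hyn ⟨u, wg_normalized h hu⟩).1 hu
  suffices hyK : y ∈ K from (K.mul_mem_cancel_left k.2).1 hyK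
  obtain ⟨e, m, hm, hord⟩ := Nat.exists_eq_two_pow_mul_odd (orderOf_pos (y : G)).ne'
  -- the odd part centralises `T`
  have hodd : y ^ 2 ^ e ∈ K := by
    refine hK _ ?_
    have hgm : ((y : G) ^ 2 ^ e) ^ m = 1 := by rw [← pow_mul, ← hord, pow_orderOf_eq_one]
    have hgn : (y : G) ^ 2 ^ e ∈ normalizer ((T : Subgroup G) : Set G) := by
      refine pow_mem ?_ _
      refine mem_normalizer_iff.2 fun u => ⟨hyT u, fun hu => ?_⟩
      have h1 : (T : Subgroup G).map (MulAut.conj (y : G)).toMonoidHom = T := by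
        refine eq_of_le_of_card_ge (by rintro _ ⟨v, hv, rfl⟩; exact hyT v hv) ?_
        rw [card_map_of_injective (MulAut.conj (y : G)).injective]
      rw [← h1] at hu
      obtain ⟨v, hv, hve⟩ := hu
      exact mul_left_cancel (mul_right_cancel hve) ▸ hv
    have h1 := h.aut_eq_one (normalizerMonoidHom (T : Subgroup G) ⟨_, hgn⟩) hm (by
      rw [← map_pow, show (⟨_, hgn⟩ : ↥(normalizer ((T : Subgroup G) : Set G))) ^ m = 1 from
        Subtype.ext hgm, map_one])
    intro z hz
    have h2' : (y : G) ^ 2 ^ e * z * ((y : G) ^ 2 ^ e)⁻¹ = z :=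
      congrArg Subtype.val (DFunLike.congr_fun h1 (⟨z, hz⟩ : ↥(T : Subgroup G)))
    show (y : G) ^ 2 ^ e * z = z * (y : G) ^ 2 ^ e
    calc _ = (y : G) ^ 2 ^ e * z * ((y : G) ^ 2 ^ e)⁻¹ * (y : G) ^ 2 ^ e := by group
      _ = _ := by rw [h2']
  -- the 2-part lies in `T`
  have htwo : y ^ m ∈ (TN : Subgroup ↥(nW W)) := by
    have hp : IsPGroup 2 ↥(zpowers (y ^ m)) := IsPGroup.of_card (n := e - 0) (by
      rw [Nat.card_zpowers, orderOf_pow_of_dvd hm.pos.ne' (by
        rw [← orderOf_submonoid (H := (nW W).toSubmonoid) y, hord]; exact Dvd.intro_left _ rfl),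
        ← orderOf_submonoid (H := (nW W).toSubmonoid) y, hord, Nat.mul_div_cancel _ hm.pos, Nat.sub_zero])
    exact TN.is_maximal' (hp.to_sup_of_normal_right' TN.isPGroup'
      (zpowers_le.2 (pow_mem hyn m))) le_sup_right ▸ mem_sup_left (mem_zpowers _)
  have hco : Nat.Coprime (2 ^ e) m := (Nat.coprime_two_left.2 hm).pow_left e
  have hg := Nat.gcd_eq_gcd_ab m (2 ^ e)
  rw [Nat.Coprime.gcd_eq_one hco.symm] at hg
  have h3 : y = (y ^ m) ^ Nat.gcdA m (2 ^ e) * (y ^ 2 ^ e) ^ Nat.gcdB m (2 ^ e) := by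
    rw [← zpow_natCast, ← zpow_natCast y (2 ^ e), ← zpow_mul, ← zpow_mul, ← zpow_add, ← hg,
      Nat.cast_one, zpow_one]
  rw [h3]
  exact K.mul_mem (K.zpow_mem (hTK htwo) _) (K.zpow_mem hodd _)

theorem range_rho (h : Rud W) (Fr : Frame W) (h2 : ∀ H : Subgroup G, H.index ≠ 2) :
    (rho h Fr).range = ⊤ := by
  classical
  set N := nW W with hN
  let ρ : ↥N →* GL (Fin 3) (ZMod 2) := rho h Fr
  have hTN : (T : Subgroup G) ≤ N := wg_normalized h
  set TN : Sylow 2 ↥N := T.subtype hTN
  set D : Subgroup (GL (Fin 3) (ZMod 2)) := (TN : Subgroup ↥N).map ρ with hDdef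
  set I := ρ.range with hIdef
  show I = ⊤
  have hDI : D ≤ I := map_le_range _ _
  -- elements of `T` with trivial image
  have hker : ∀ t : ↥N, (t : G) ∈ (T : Subgroup G) → (ρ t = 1 ↔ (t : G) ∈ wg W) := by
    intro t ht
    refine (rho_eq_one_iff h Fr t).trans ?_
    exact ⟨cent_zg_T h ht, fun hw z hz => (comm_zg h hw hz).symm⟩
  have hD8 : Nat.card D = 8 := by
    have hsub : ((wg W).subgroupOf N).subgroupOf (TN : Subgroup ↥N) =
        (ρ.comp (TN : Subgroup ↥N).subtype).ker := by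
      ext t
      rw [MonoidHom.mem_ker, mem_subgroupOf, mem_subgroupOf]
      exact (hker t t.2).symm
    have h1 := card_mul_index (ρ.comp (TN : Subgroup ↥N).subtype).ker
    rw [index_ker, MonoidHom.range_comp, range_subtype, ← hDdef, ← hsub] at h1
    have h2' : Nat.card ↥(((wg W).subgroupOf N).subgroupOf (TN : Subgroup ↥N)) = 2 ^ 11 := by
      rw [Nat.card_congr (subgroupOfEquivOfLe (show (wg W).subgroupOf N ≤ (TN : Subgroup ↥N) from
          fun x hx => show (x : G) ∈ (T : Subgroup G) from wg_le W (mem_subgroupOf.1 hx))).toEquiv,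
        Nat.card_congr (subgroupOfEquivOfLe (le_normalizer : wg W ≤ N)).toEquiv, card_wg h]
    have h3 : Nat.card ↥(TN : Subgroup ↥N) = 2 ^ 14 := by
      show Nat.card ↥((T : Subgroup G).subgroupOf N) = 2 ^ 14
      rw [Nat.card_congr (subgroupOfEquivOfLe hTN).toEquiv, h.card_facts.2.2.2]
    rw [h2', h3] at h1
    omega
  have hId : Nat.card I ∣ 168 := HSUniq.card_gl32 ▸ card_subgroup_dvd_card I
  have hDd : 8 ∣ Nat.card I := hD8 ▸ card_dvd_of_le hDI
  have hrel : (D.subgroupOf I).index * 8 = Nat.card I := by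
    rw [← card_mul_index (D.subgroupOf I), Nat.card_congr (subgroupOfEquivOfLe hDI).toEquiv, hD8,
      mul_comm]
  -- no quotient of order two
  have hno : ∀ θ : ↥I →* Multiplicative (ZMod 2), θ = 1 := by
    intro θ
    by_contra hθ
    let f : G → ZMod 2 := fun g =>
      if hg : g ∈ N then Multiplicative.toAdd (θ (ρ.rangeRestrict ⟨g, hg⟩)) else 0
    have hf : ∀ a ∈ N, ∀ b ∈ N, f (a * b) = f a + f b := by
      intro a ha b hb
      simp only [f, dif_pos ha, dif_pos hb, dif_pos (mul_mem ha hb)]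
      rw [← toAdd_mul, ← map_mul, ← map_mul]
      rfl
    have hfW : ∀ w ∈ wg W, f w = 0 := by
      intro w hw
      have hwN : w ∈ N := le_normalizer hw
      simp only [f, dif_pos hwN]
      rw [show ρ.rangeRestrict ⟨w, hwN⟩ = 1 from Subtype.ext ((hker ⟨w, hwN⟩ (wg_le W hw)).2 hw),
        map_one, toAdd_one]
    have hzero : ∀ t ∈ (T : Subgroup G), t * t ∈ wg W → f t = 0 := fun t ht ht2 => by
      rcases (by decide : ∀ v : ZMod 2, v = 0 ∨ v = 1) (f t) with e | e
      · exact e
      · exact (no_quotient h hf hfW h2 ht ht2 e).elim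
    -- so `f` vanishes on `T`
    have hadd : ∀ a b : ↥(T : Subgroup G), f ((a * b : ↥(T : Subgroup G)) : G) = f a + f b :=
      fun a b => hf _ (hTN a.2) _ (hTN b.2)
    have hA : ∀ c : C, mulC c c = 0 → f (Fr.rep c : G) = 0 := fun c hc => by
      refine hzero _ (Fr.rep c).2 ⟨Fr.rep c * Fr.rep c, ?_, rfl⟩
      rw [SetLike.mem_coe, Fr.mem_iff, Fr.cc_mul, Fr.cc_rep, hc]
    have hmod : ∀ s t : ↥(T : Subgroup G), Fr.cc s = Fr.cc t → f s = f t := by
      intro s t e
      have h1 := hfW ((s⁻¹ * t : ↥(T : Subgroup G)) : G) ⟨_, (Fr.cc_eq s t).1 e, rfl⟩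
      have h2 := hadd s (s⁻¹ * t)
      rw [mul_inv_cancel_left, h1, add_zero] at h2
      exact h2.symm
    have hall : ∀ t : ↥(T : Subgroup G), f t = 0 := by
      intro t
      have hprod : ∀ c d : C, mulC c c = 0 → mulC d d = 0 → Fr.cc t = mulC c d → f t = 0 := by
        intro c d hc hd e
        rw [hmod t (Fr.rep c * Fr.rep d) (by rw [Fr.cc_mul, Fr.cc_rep, Fr.cc_rep, e]), hadd,
          hA c hc, hA d hd, add_zero]
      have : ∀ x : C, ∃ c d : C, mulC c c = 0 ∧ mulC d d = 0 ∧ x = mulC c d := by decide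
      obtain ⟨c, d, hc, hd, e⟩ := this (Fr.cc t)
      exact hprod c d hc hd e
    have hle : D.subgroupOf I ≤ θ.ker := by
      rintro ⟨x, hx⟩ hxD
      obtain ⟨y, hy, rfl⟩ := mem_subgroupOf.1 hxD
      have h1 := hall ⟨y, hy⟩
      simp only [f, dif_pos y.2] at h1
      exact Multiplicative.toAdd.injective (h1.trans toAdd_one.symm)
    have hi := index_dvd_of_le hle
    rw [index_ker] at hi
    have hr : Nat.card θ.range = 2 := by
      have hle2 : Nat.card θ.range ≤ 2 := by
        refine le_trans (Finite.card_subtype_le _) ?_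
        rw [Nat.card_congr Multiplicative.toAdd, Nat.card_zmod]
      have : Nat.card θ.range ≠ 1 := fun e => hθ (MonoidHom.range_eq_bot_iff.1 (card_eq_one.1 e))
      have := Nat.card_pos (α := θ.range)
      omega
    rw [hr] at hi
    have : 16 ∣ Nat.card I := hrel ▸ Nat.mul_dvd_mul_right hi 8
    have := this.trans hId
    norm_num at this
  have hno2 : ∀ K : Subgroup ↥I, K.index ≠ 2 := fun K hK => by
    obtain ⟨θ, hθ⟩ := exists_hom K hK
    exact hθ (hno θ)
  -- `D` is its own normalizer in the image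
  have hself : ∀ x : ↥N, (∀ d ∈ D, ρ x * d * (ρ x)⁻¹ ∈ D) → ρ x ∈ D := fun x hx =>
    self_norm h (K := D.comap ρ) (le_comap_map _ _) (fun o ho => by
      have h1 : ρ o = 1 := (rho_eq_one_iff h Fr o).2 fun z hz => ho z (wg_le W (zg_le W hz))
      show ρ o ∈ D
      rw [h1]
      exact one_mem _)
      x fun y hy => by
        show ρ (x * y * x⁻¹) ∈ D
        rw [map_mul, map_mul, map_inv]
        exact hx _ ⟨y, hy, rfl⟩
  -- the order of the image
  have hcases : Nat.card I = 8 ∨ Nat.card I = 24 ∨ Nat.card I = 56 ∨ Nat.card I = 168 := by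
    have hle : Nat.card I ≤ 168 := Nat.le_of_dvd (by norm_num) hId
    revert hId hDd hle
    generalize Nat.card I = n
    intro hId hDd hle
    obtain ⟨k, rfl⟩ := hDd
    have : k ∣ 21 := (Nat.mul_dvd_mul_iff_left (by norm_num : 0 < 8)).1 hId
    have hk : k ∈ Nat.divisors 21 := Nat.mem_divisors.2 ⟨this, by norm_num⟩
    rw [show Nat.divisors 21 = {1, 3, 7, 21} by decide] at hk
    simp only [Finset.mem_insert, Finset.mem_singleton] at hk
    omega
  haveI : Fact (Nat.Prime 2) := ⟨Nat.prime_two⟩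
  rcases hcases with e | e | e | e
  · exfalso
    have hp : IsPGroup 2 ↥I := IsPGroup.of_card (n := 3) (by rw [e]; norm_num)
    obtain ⟨K, hK, -⟩ := (eq_top_or_exists_le_coatom (⊥ : Subgroup ↥I)).resolve_left fun h => by
      have := congrArg (fun H : Subgroup ↥I => Nat.card H) h
      simp only [card_bot, card_top, e] at this
      norm_num at this
    exact hno2 K (CfsgLib.PGroupBasic.coatom_normal_index hp hK).2
  · exfalso
    have hidx : (D.subgroupOf I).index = 3 := by omega
    have hDp : IsPGroup 2 ↥(D.subgroupOf I) := IsPGroup.of_card (n := 3) (by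
      rw [Nat.card_congr (subgroupOfEquivOfLe hDI).toEquiv, hD8]; norm_num)
    let S : Sylow 2 ↥I := hDp.toSylow (by rw [hidx]; norm_num)
    have hnorm : normalizer (S : Set ↥I) = (S : Subgroup ↥I) := by
      refine le_antisymm (fun x hx => ?_) le_normalizer
      obtain ⟨g, hg⟩ := x.2
      refine mem_subgroupOf.2 (hg ▸ hself g fun d hd => ?_)
      rw [hg]
      exact mem_subgroupOf.1 ((mem_normalizer_iff.1 hx ⟨d, hDI hd⟩).1 (mem_subgroupOf.2 hd))
    have hn3 : Fintype.card (Sylow 2 ↥I) = 3 := by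
      rw [← Nat.card_eq_fintype_card, Sylow.card_eq_index_normalizer S, hnorm]
      exact hidx
    let θ := MulAction.toPermHom ↥I (Sylow 2 ↥I)
    let σ : ↥I →* ℤˣ := Equiv.Perm.sign.comp θ
    have hσ : σ ≠ 1 := by
      intro hσ
      have hfix : ∀ d ∈ (S : Subgroup ↥I), ∀ Q : Sylow 2 ↥I, d • Q = Q := by
        intro d hd Q
        have h8 : d ^ 8 = 1 := by
          have := pow_card_eq_one' (x := (⟨d, hd⟩ : ↥(S : Subgroup ↥I)))
          rw [show Nat.card ↥(S : Subgroup ↥I) = 8 from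
            (Nat.card_congr (subgroupOfEquivOfLe hDI).toEquiv).trans hD8] at this
          exact congrArg Subtype.val this
        have := perm_three hn3 (θ d) (by rw [← map_pow, h8, map_one]) (DFunLike.congr_fun hσ d)
        exact congrFun (congrArg DFunLike.coe this) Q
      obtain ⟨Q, hQ⟩ : ∃ Q : Sylow 2 ↥I, Q ≠ S := by
        by_contra hc
        push Not at hc
        have : Fintype.card (Sylow 2 ↥I) ≤ 1 := Fintype.card_le_one_iff.2 fun a b => (hc a).trans (hc b).symm
        omega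
      obtain ⟨g, rfl⟩ := MulAction.exists_smul_eq ↥I S Q
      apply hQ
      have hle : (S : Subgroup ↥I) ≤ normalizer ((g • S : Sylow 2 ↥I) : Set ↥I) :=
        fun d hd => Sylow.smul_eq_iff_mem_normalizer.1 (hfix d hd _)
      have hSQ : (S : Subgroup ↥I) ≤ ((g • S : Sylow 2 ↥I) : Subgroup ↥I) := by
        have h3 := IsPGroup.inf_normalizer_sylow S.isPGroup' (g • S)
        rw [inf_eq_left.2 hle] at h3
        exact h3 ▸ inf_le_right
      exact (Sylow.ext (eq_of_le_of_card_ge hSQ
        (Sylow.card_eq_multiplicity (g • S) ▸ (Sylow.card_eq_multiplicity S).ge))).symm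
    refine hno2 σ.ker ?_
    rw [index_ker]
    have : σ.range = ⊤ := by
      rw [eq_top_iff]
      intro u _
      rcases Int.units_eq_one_or u with rfl | rfl
      · exact one_mem _
      · by_contra hc
        apply hσ
        ext x
        rcases Int.units_eq_one_or (σ x) with e1 | e1
        · rw [e1]; rfl
        · exact absurd (e1 ▸ ⟨x, rfl⟩) hc
    rw [this, card_top, Nat.card_eq_fintype_card, Fintype.card_units_int]
  · exfalso
    haveI := HSUniq.isSimpleGroup_gl32
    have hidx : I.index = 3 := by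
      have := card_mul_index I
      rw [HSUniq.card_gl32, e] at this
      omega
    rcases I.normalCore_normal.eq_bot_or_eq_top with hc | hc
    · have h1 := card_mul_index (MulAction.toPermHom (GL (Fin 3) (ZMod 2)) (GL (Fin 3) (ZMod 2) ⧸ I)).ker
      rw [index_ker, ← normalCore_eq_ker, hc, card_bot, one_mul, HSUniq.card_gl32] at h1
      have h3 := card_subgroup_dvd_card
        (MulAction.toPermHom (GL (Fin 3) (ZMod 2)) (GL (Fin 3) (ZMod 2) ⧸ I)).range
      rw [h1, Nat.card_perm, ← index_eq_card, hidx] at h3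
      norm_num [Nat.factorial] at h3
    · have := I.normalCore_le
      rw [hc, top_le_iff] at this
      rw [this, index_top] at hidx
      norm_num at hidx
  · exact eq_top_of_card_eq _ (by rw [e, HSUniq.card_gl32])

end CfsgLib.RudNormal
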