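import Cfsg.Agent.RudNormal.Odd
import Cfsg.Agent.CommClosed.Core

/-!
The normalizer of the derived subgroup of `W` is the normalizer of `W` times an odd core.
-/

set_option autoImplicit false
set_option linter.unusedSectionVars false
set_option linter.style.haveILetI false

namespace CfsgLib.RudNormal

open Subgroup CfsgLib.Rudvalis CfsgLib.CommClosed
open scoped commutatorElement

variable {G : Type*} [Group G] [Finite G] {T : Sylow 2 G} {W : Subgroup ↥(T : Subgroup G)}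

theorem cent_le_ker (h : Rud W) (Fr : Frame W) (h2 : ∀ H : Subgroup G, H.index ≠ 2) :
    haveI := zin_normal h
    (rho h Fr).ker ≤ (theta h).ker := by
  haveI := zin_normal h
  haveI : Fact (Nat.Prime 2) := ⟨Nat.prime_two⟩
  classical
  set θ := theta h
  set C0 := (rho h Fr).ker with hC0
  have htwo : ∀ g ∈ C0, ∀ k : ℕ, g ^ 2 ^ k = 1 → (g : G) ∈ wg W := by
    intro g hg k hk
    have hp : IsPGroup 2 ↥(zpowers g) := by
      obtain ⟨i, -, hi⟩ := (Nat.dvd_prime_pow Nat.prime_two).1 (orderOf_dvd_of_pow_eq_one hk)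
      exact IsPGroup.of_card (n := i) (by rw [Nat.card_zpowers, hi])
    obtain ⟨S, hS⟩ := hp.exists_le_sylow
    obtain ⟨n, hn⟩ := MulAction.exists_smul_eq ↥(nW W) S (tN h)
    have hmem : n * g * n⁻¹ ∈ (tN h : Subgroup ↥(nW W)) := by
      rw [← hn]; exact ⟨g, hS (mem_zpowers g), rfl⟩
    have h1 : ((n * g * n⁻¹ : ↥(nW W)) : G) ∈ wg W := by
      refine cent_zg_T h (mem_subgroupOf.1 hmem) ?_
      refine (rho_eq_one_iff h Fr _).1 (MonoidHom.mem_ker.1 ?_)
      exact (MonoidHom.normal_ker _).conj_mem g hg n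
    have := conj_mem_wg (inv_mem n.2) h1
    rwa [show (n : G)⁻¹ * ((n * g * n⁻¹ : ↥(nW W)) : G) * (n : G)⁻¹⁻¹ = (g : G) by
      simp only [Subgroup.coe_mul, Subgroup.coe_inv]; group] at this
  have hodd : ∀ g ∈ C0, Odd (orderOf (θ g)) := by
    intro g hg
    obtain ⟨e, m, hm, hord⟩ := Nat.exists_eq_two_pow_mul_odd (orderOf_pos g).ne'
    have h1 : θ (g ^ m) = 1 := wg_le_ker h (htwo _ (pow_mem hg m) e (by
      rw [← pow_mul, mul_comm, ← hord, pow_orderOf_eq_one]))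
    rw [map_pow] at h1
    exact hm.of_dvd_nat (orderOf_dvd_of_pow_eq_one h1)
  by_contra hle
  obtain ⟨g, hg, hgθ⟩ := SetLike.not_le_iff_exists.1 hle
  rw [MonoidHom.mem_ker] at hgθ
  have hne : orderOf (θ g) ≠ 1 := fun e => hgθ (orderOf_eq_one_iff.1 e)
  obtain ⟨r, hr, hrd⟩ := Nat.exists_prime_and_dvd hne
  haveI : Fact r.Prime := ⟨hr⟩
  have hr2 : r ≠ 2 := fun e => by
    have h1 := (hodd g hg).of_dvd_nat hrd
    rw [e] at h1
    exact absurd h1 (by decide)
  obtain ⟨R⟩ : Nonempty (Sylow r ↥C0) := inferInstance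
  -- `R` is not in the kernel
  have hRnot : ¬ ((R : Subgroup ↥C0).map C0.subtype ≤ θ.ker) := by
    intro hR
    have hle' : (R : Subgroup ↥C0) ≤ (θ.comp C0.subtype).ker := fun x hx => hR ⟨x, hx, rfl⟩
    have h1 := index_dvd_of_le hle'
    rw [index_ker] at h1
    have h3 : orderOf (θ g) ∣ Nat.card (θ.comp C0.subtype).range :=
      Subgroup.orderOf_dvd_natCard _ ⟨⟨g, hg⟩, rfl⟩
    exact R.not_dvd_index ((hrd.trans h3).trans h1)
  set N1 := normalizer (((R : Subgroup ↥C0).map C0.subtype : Subgroup ↥(nW W)) : Set ↥(nW W)) with hN1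
  have hsup : N1 ⊔ C0 = ⊤ := Sylow.normalizer_sup_eq_top R
  have hcov : N1.map (rho h Fr) = ⊤ := by
    have h1 := congrArg (Subgroup.map (rho h Fr)) hsup
    rwa [Subgroup.map_sup, (Subgroup.map_eq_bot_iff C0).2 le_rfl, sup_bot_eq, ← MonoidHom.range_eq_map,
      range_rho h Fr h2] at h1
  obtain ⟨P0⟩ : Nonempty (Sylow 2 ↥N1) := inferInstance
  obtain ⟨S, hS⟩ := (P0.isPGroup'.map N1.subtype).exists_le_sylow
  obtain ⟨n, hn⟩ := MulAction.exists_smul_eq ↥(nW W) S (tN h)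
  let c := (MulAut.conj n).toMonoidHom
  set R' := ((R : Subgroup ↥C0).map C0.subtype).map c
  set P := ((P0 : Subgroup ↥N1).map N1.subtype).map c
  have hN1' : normalizer (R' : Set ↥(nW W)) = N1.map c :=
    (map_equiv_normalizer_eq _ (MulAut.conj n)).symm
  have hR'0 : R' ≤ C0 := by
    rintro _ ⟨x, hx, rfl⟩
    exact (MonoidHom.normal_ker _).conj_mem x (map_subtype_le _ hx) n
  have hPT : P ≤ (tN h : Subgroup ↥(nW W)) := by
    rintro _ ⟨x, hx, rfl⟩
    rw [← hn]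
    exact ⟨x, hS hx, rfl⟩
  have hcov' : (normalizer (R' : Set ↥(nW W))).map (rho h Fr) = ⊤ := by
    rw [eq_top_iff]
    intro y _
    obtain ⟨x, hx, hxe⟩ : (rho h Fr n)⁻¹ * y * rho h Fr n ∈ N1.map (rho h Fr) := hcov ▸ mem_top _
    refine ⟨c x, hN1'.symm ▸ mem_map_of_mem c hx, ?_⟩
    show rho h Fr (n * x * n⁻¹) = y
    rw [map_mul, map_mul, map_inv, hxe]
    group
  have hPR : P ≤ normalizer (R' : Set ↥(nW W)) := by
    rw [hN1']
    exact map_mono (map_subtype_le _)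
  have hPc : ∀ t ∈ (tN h : Subgroup ↥(nW W)), ∃ p ∈ P, rho h Fr p = rho h Fr t := by
    have hsur : Function.Surjective ((rho h Fr).comp N1.subtype) := fun y => by
      obtain ⟨x, hx, rfl⟩ : y ∈ N1.map (rho h Fr) := hcov ▸ mem_top _
      exact ⟨⟨x, hx⟩, rfl⟩
    have h1 := Sylow.card_eq_multiplicity (P0.mapSurjective hsur)
    have hsur' : Function.Surjective (rho h Fr) :=
      MonoidHom.range_eq_top.1 (range_rho h Fr h2)
    have h2' := Sylow.card_eq_multiplicity ((tN h).mapSurjective hsur')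
    have hPcard : Nat.card ↥(P.map (rho h Fr)) =
        Nat.card ↥((P0.mapSurjective hsur : Sylow 2 (GL (Fin 3) (ZMod 2))) :
          Subgroup (GL (Fin 3) (ZMod 2))) := by
      rw [Sylow.coe_mapSurjective, ← map_map]
      have e : P.map (rho h Fr) =
          (((P0 : Subgroup ↥N1).map N1.subtype).map (rho h Fr)).map
            (MulAut.conj (rho h Fr n)).toMonoidHom := by
        simp only [P, Subgroup.map_map]
        congr 1
        exact MonoidHom.ext fun x => by simp [c]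
      rw [e, card_map_of_injective (MulAut.conj (rho h Fr n)).injective]
    have heq : P.map (rho h Fr) = (tN h : Subgroup ↥(nW W)).map (rho h Fr) := by
      refine eq_of_le_of_card_ge (map_mono hPT) ?_
      rw [hPcard, h1, ← h2', Sylow.coe_mapSurjective]
    intro t ht
    have : rho h Fr t ∈ P.map (rho h Fr) := heq ▸ mem_map_of_mem _ ht
    exact this
  have hkey := le_ker_of_cover h Fr hr2 R' hR'0 ((R.isPGroup'.map _).map _) hcov' P hPT hPR hPc hodd
  apply hRnot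
  intro x hx
  have h1 := MonoidHom.mem_ker.1 (hkey (mem_map_of_mem c hx))
  change θ (n * x * n⁻¹) = 1 at h1
  rw [map_mul, map_mul, map_inv, conj_eq_one_iff] at h1
  exact MonoidHom.mem_ker.2 h1

theorem cent_conj {Z : Subgroup G} {m x z : G} (hm : m ∈ normalizer (Z : Set G))
    (hx : x ∈ centralizer (Z : Set G)) (hz : z ∈ Z) : z * (m * x * m⁻¹) = m * x * m⁻¹ * z := by
  have h1 := mem_centralizer_iff.1 hx _ ((mem_normalizer_iff.1 (inv_mem hm) z).1 hz)
  rw [inv_inv] at h1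
  calc z * (m * x * m⁻¹) = m * ((m⁻¹ * z * m) * x) * m⁻¹ := by group
    _ = m * (x * (m⁻¹ * z * m)) * m⁻¹ := by rw [h1]
    _ = m * x * m⁻¹ * z := by group

theorem main (h : Rud W) (h2 : ∀ H : Subgroup G, H.index ≠ 2) :
    ∃ φ : ↥(nW W) →* GL (Fin 3) (ZMod 2), Function.Surjective φ ∧
      φ.ker = (wg W).subgroupOf (nW W) ⊔ Cfsg.oddCore ↥(nW W) ∧
      ∀ M : Subgroup G, M = normalizer (zg W : Set G) →
        (nW W).subgroupOf M ⊔ Cfsg.oddCore ↥M = ⊤ := by
  classical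
  haveI : Fact (Nat.Prime 2) := ⟨Nat.prime_two⟩
  haveI := zin_normal h
  obtain ⟨Fr⟩ := h.nonempty_frame
  have hker := cent_le_ker h Fr h2
  set M0 := normalizer (zg W : Set G) with hM0
  set Cz := centralizer (zg W : Set G) with hCz
  have hCM : Cz ≤ M0 := centralizer_le_normalizer _
  have hWC : wg W ≤ Cz := fun w hw => mem_centralizer_iff.2 fun z hz => comm_zg h hw hz
  have hzW : zg W ≤ wg W := zg_le W
  have hNM : nW W ≤ M0 := by
    intro g hg
    refine mem_normalizer_iff.2 fun z => ⟨conj_mem_zg h hg, fun hz => ?_⟩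
    have := conj_mem_zg h (inv_mem hg) hz
    rwa [inv_inv, show g⁻¹ * (g * z * g⁻¹) * g = z by group] at this
  -- a Sylow 2-subgroup of the centralizer
  obtain ⟨S, hS⟩ := ((T.isPGroup'.to_le (wg_le W)).comap_subtype (K := Cz)).exists_le_sylow
  have hSW : ∀ x : ↥Cz, x ∈ (S : Subgroup ↥Cz) ↔ (x : G) ∈ wg W := by
    obtain ⟨S', hS'⟩ := (S.isPGroup'.map Cz.subtype).exists_le_sylow
    obtain ⟨g, hg⟩ := MulAction.exists_smul_eq G S' T
    have hST : ∀ x : ↥Cz, x ∈ (S : Subgroup ↥Cz) → g * (x : G) * g⁻¹ ∈ (T : Subgroup G) := by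
      intro x hx
      rw [← hg]
      exact ⟨(x : G), hS' ⟨x, hx, rfl⟩, rfl⟩
    have hgN : g ∈ nW W := mem_normalizer_of_conj h fun u hu =>
      hST ⟨u, hWC hu⟩ (hS (mem_subgroupOf.2 hu))
    intro x
    refine ⟨fun hx => ?_, fun hx => hS (mem_subgroupOf.2 hx)⟩
    have h1 : g * (x : G) * g⁻¹ ∈ wg W := by
      refine cent_zg_T h (hST x hx) fun z hz => ?_
      have hz' := conj_mem_zg h (inv_mem hgN) hz
      rw [inv_inv] at hz'
      have h3 := mem_centralizer_iff.1 x.2 _ hz'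
      calc g * (x : G) * g⁻¹ * z = g * ((x : G) * (g⁻¹ * z * g)) * g⁻¹ := by group
        _ = g * ((g⁻¹ * z * g) * (x : G)) * g⁻¹ := by rw [h3]
        _ = z * (g * (x : G) * g⁻¹) := by group
    have := conj_mem_wg (inv_mem hgN) h1
    rwa [inv_inv, show g⁻¹ * (g * (x : G) * g⁻¹) * g = x by group] at this
  set Zc := (zg W).subgroupOf Cz
  have hZcomm : ∀ z ∈ Zc, ∀ x : ↥Cz, x * z = z * x := fun z hz x =>
    Subtype.ext (mem_centralizer_iff.1 x.2 (z : G) hz).symm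
  haveI : Zc.Normal := ⟨fun z hz x => by rwa [hZcomm z hz x, mul_inv_cancel_right]⟩
  let π := QuotientGroup.mk' Zc
  let Pb := S.mapSurjective (f := π) (QuotientGroup.mk'_surjective Zc)
  have hN : normalizer (Pb : Set (↥Cz ⧸ Zc)) ≤ centralizer (Pb : Set (↥Cz ⧸ Zc)) := by
    intro xb hxb
    obtain ⟨x, rfl⟩ := QuotientGroup.mk_surjective xb
    have hxN : (x : G) ∈ nW W := by
      refine mem_normalizer_of_conj h fun u hu => wg_le W ?_
      obtain ⟨s, hs, hse⟩ := (mem_normalizer_iff.1 hxb (π ⟨u, hWC hu⟩)).1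
        (mem_map_of_mem π (hS (mem_subgroupOf.2 hu)))
      have h1 : π s = π (x * ⟨u, hWC hu⟩ * x⁻¹) := by rw [hse, map_mul, map_mul, map_inv]; rfl
      have h3 : s⁻¹ * (x * ⟨u, hWC hu⟩ * x⁻¹) ∈ Zc := QuotientGroup.eq.1 h1
      have := (wg W).mul_mem ((hSW s).1 hs) (hzW (mem_subgroupOf.1 h3))
      simpa using this
    have hx1 : theta h ⟨x, hxN⟩ = 1 := hker ((rho_eq_one_iff h Fr ⟨x, hxN⟩).2 fun z hz =>
      (mem_centralizer_iff.1 x.2 z hz).symm)
    refine mem_centralizer_iff.2 ?_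
    rintro _ ⟨s, hs, rfl⟩
    show π s * π x = π x * π s
    rw [← map_mul, ← map_mul]
    refine QuotientGroup.eq.2 (mem_subgroupOf.2 ?_)
    have h1 := (theta_eq_one_iff h _).1 hx1 s ((hSW s).1 hs)
    have h4 := mem_centralizer_iff.1 (mul_mem s.2 x.2) _ h1
    show ((s : G) * x)⁻¹ * ((x : G) * s) ∈ zg W
    rw [show ((s : G) * x)⁻¹ * ((x : G) * s) =
      ((s : G) * x)⁻¹ * (((x : G) * s * (x : G)⁻¹ * (s : G)⁻¹) * ((s : G) * x)) by group, h4,
      inv_mul_cancel_left]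
    exact h1
  obtain ⟨Kb, hKn, hcomp⟩ : ∃ Kb : Subgroup (↥Cz ⧸ Zc), Kb.Normal ∧
      IsComplement' Kb (Pb : Subgroup (↥Cz ⧸ Zc)) :=
    ⟨_, MonoidHom.normal_ker _, MonoidHom.ker_transferSylow_isComplement' Pb hN⟩
  set K := Kb.comap π with hK
  have hZK : Zc ≤ K := fun z hz => by
    show π z ∈ Kb
    rw [show π z = 1 from (QuotientGroup.eq_one_iff z).2 hz]; exact one_mem _
  haveI : K.Normal := Normal.comap hKn π
  have hKodd : Odd (Nat.card Kb) := by
    rw [← hcomp.index_eq_card]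
    exact Nat.not_even_iff_odd.1 fun he => Pb.not_dvd_index (even_iff_two_dvd.1 he)
  have hidx : (Zc.subgroupOf K).index = Nat.card Kb := by
    have h1 := relIndex_ker K π
    rw [map_comap_eq_self_of_surjective (QuotientGroup.mk'_surjective Zc),
      show π.ker = Zc from QuotientGroup.ker_mk' Zc] at h1
    exact h1
  have hZ8 : Nat.card (Zc.subgroupOf K) = 2 ^ 3 := by
    rw [Nat.card_congr (subgroupOfEquivOfLe hZK).toEquiv,
      Nat.card_congr (subgroupOfEquivOfLe (hzW.trans hWC)).toEquiv, zg,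
      card_map_of_injective (T : Subgroup G).subtype_injective, h.phi_eq, h.card_ucs 3 (by norm_num)]
  obtain ⟨L, hL⟩ := exists_right_complement'_of_coprime (N := Zc.subgroupOf K)
    (by rw [hZ8, hidx]; exact (Nat.coprime_two_left.2 hKodd).pow_left 3)
  have hLodd : Odd (Nat.card L) := by rw [← hL.symm.index_eq_card, hidx]; exact hKodd
  have hdec : ∀ x ∈ K, ∃ z ∈ Zc, ∃ l ∈ L.map K.subtype, x = z * l := by
    intro x hx
    obtain ⟨⟨z, l⟩, e, -⟩ := hL.existsUnique (⟨x, hx⟩ : ↥K)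
    exact ⟨(z : ↥K), mem_subgroupOf.1 z.2, ((l : ↥K) : ↥Cz), ⟨l, l.2, rfl⟩, (congrArg Subtype.val e).symm⟩
  -- the elements of odd order in `K`
  have hLmem : ∀ x ∈ K, Odd (orderOf x) → x ∈ L.map K.subtype := by
    intro x hx hxo
    obtain ⟨z, hz, l, hl, rfl⟩ := hdec x hx
    have hl1 : l ^ Nat.card L = 1 := by
      obtain ⟨y, hy, rfl⟩ := hl
      rw [← map_pow, show y ^ Nat.card L = 1 from congrArg Subtype.val (pow_card_eq_one' (x := (⟨y, hy⟩ : ↥L))),
        map_one]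
    have h1 : (z * l) ^ Nat.card L = z ^ Nat.card L := by
      rw [Commute.mul_pow ((hZcomm z hz l).symm), hl1, mul_one]
    have h8 : z ^ 2 ^ 3 = 1 := by
      have := pow_card_eq_one' (x := (⟨z, hz⟩ : ↥Zc))
      rw [← Nat.card_congr (subgroupOfEquivOfLe hZK).toEquiv, hZ8] at this
      exact congrArg Subtype.val this
    have h3 : z ^ (Nat.card L * orderOf (z * l)) = 1 := by
      rw [pow_mul, ← h1, ← pow_mul, mul_comm, pow_mul, pow_orderOf_eq_one, one_pow]
    have hz1 : z = 1 := orderOf_eq_one_iff.1 (Nat.eq_one_of_dvd_coprimes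
      ((Nat.coprime_two_left.2 (hLodd.mul hxo)).pow_left 3) (orderOf_dvd_of_pow_eq_one h8)
      (orderOf_dvd_of_pow_eq_one h3))
    rwa [hz1, one_mul]
  have hLn : (L.map K.subtype).Normal := ⟨fun x hx g => by
    refine hLmem _ ((inferInstance : K.Normal).conj_mem x (map_subtype_le _ hx) g) ?_
    rw [show g * x * g⁻¹ = MulAut.conj g x from rfl, MulEquiv.orderOf_eq]
    refine hLodd.of_dvd_nat ?_
    rw [← card_map_of_injective K.subtype_injective (K := L)]
    exact Subgroup.orderOf_dvd_natCard _ hx⟩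
  have hLcore : L.map K.subtype ≤ Cfsg.oddCore ↥Cz := Solvable.le_pPrimeCore 2 hLn (by
    rw [card_map_of_injective K.subtype_injective]
    exact Nat.coprime_two_right.2 hLodd)
  have hcoreM : core Cz ≤ core M0 := by
    have hnb : NormalizedBy Cz (M0 : Set G) := by
      intro m hm x hx
      refine mem_centralizer_iff.2 fun z hz => ?_
      exact cent_conj hm hx hz
    exact le_core_of_subnormal (H := M0) (M := Cz) (U := core Cz) hCM hnb (core_le Cz) (odd_core Cz)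
      (core_normalized Cz)
  have hCdec : ∀ x ∈ Cz, ∃ o ∈ core M0, ∃ w ∈ wg W, x = o * w := by
    intro x hx
    obtain ⟨⟨k, p⟩, e, -⟩ := hcomp.existsUnique (π ⟨x, hx⟩)
    obtain ⟨s, hs, hsp⟩ := p.2
    have hk : (⟨x, hx⟩ : ↥Cz) * s⁻¹ ∈ K := by
      rw [hK, Subgroup.mem_comap, map_mul, map_inv, hsp, ← show (k : ↥Cz ⧸ Zc) * p = π ⟨x, hx⟩ from e, mul_inv_cancel_right]
      exact k.2
    obtain ⟨z, hz, l, hl, hzl⟩ := hdec _ hk
    refine ⟨(l : G), hcoreM ⟨l, hLcore hl, rfl⟩, (z : G) * (s : G),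
      (wg W).mul_mem (hzW (mem_subgroupOf.1 hz)) ((hSW s).1 hs), ?_⟩
    have hx' : (⟨x, hx⟩ : ↥Cz) = l * (z * s) := by
      rw [← mul_assoc, hZcomm z hz l, ← hzl, inv_mul_cancel_right]
    exact congrArg Subtype.val hx'
  -- the kernel
  have hkerEq : (rho h Fr).ker = (wg W).subgroupOf (nW W) ⊔ Cfsg.oddCore ↥(nW W) := by
    refine le_antisymm (fun g hg => ?_) (sup_le (fun g hg => ?_) (fun g hg => ?_))
    · obtain ⟨o, ho, w, hw, hgo⟩ := hCdec (g : G) (mem_centralizer_iff.2 fun z hz =>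
        (((rho_eq_one_iff h Fr g).1 hg) z hz).symm)
      have hoN : o ∈ nW W := by
        rw [show o = (g : G) * w⁻¹ by rw [hgo, mul_inv_cancel_right]]
        exact mul_mem g.2 (inv_mem (le_normalizer hw))
      have hO : core M0 ⊓ nW W ≤ core (nW W) := by
        refine le_core inf_le_right ((odd_core M0).of_dvd_nat (card_dvd_of_le inf_le_left)) ?_
        intro n hn x hx
        exact ⟨core_normalized M0 n (hNM hn) x hx.1, (nW W).mul_mem ((nW W).mul_mem hn hx.2) ((nW W).inv_mem hn)⟩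
      obtain ⟨o', ho', hoe⟩ := hO ⟨ho, hoN⟩
      rw [show g = o' * ⟨w, le_normalizer hw⟩ from Subtype.ext (by
        rw [hgo, ← hoe]; rfl)]
      exact mul_mem (mem_sup_right ho') (mem_sup_left (mem_subgroupOf.2 hw))
    · exact (rho_eq_one_iff h Fr g).2 fun z hz => (comm_zg h (mem_subgroupOf.1 hg) hz).symm
    · refine (rho_eq_one_iff h Fr g).2 fun z hz => ?_
      have h1 : (g : G) * z * (g : G)⁻¹ * z⁻¹ ∈ core (nW W) := by
        have hzN : z ∈ nW W := le_normalizer (hzW hz)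
        rw [mul_assoc (g : G), mul_assoc (g : G)]
        exact (core (nW W)).mul_mem ⟨g, hg, rfl⟩
          (core_normalized (nW W) z hzN _ ((core (nW W)).inv_mem ⟨g, hg, rfl⟩))
      have h3 : (g : G) * z * (g : G)⁻¹ * z⁻¹ ∈ zg W :=
        mul_mem (conj_mem_zg h g.2 hz) (inv_mem hz)
      have hz2 : ∀ u ∈ zg W, u ^ 2 = 1 := by
        rintro _ ⟨a, ha, rfl⟩
        rw [← map_pow, h.phi_sq ha, map_one]
      have h4 : (g : G) * z * (g : G)⁻¹ * z⁻¹ = 1 := by
        refine orderOf_eq_one_iff.1 (Nat.eq_one_of_dvd_coprimes (Nat.coprime_two_left.2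
          ((odd_core (nW W)).of_dvd_nat ((core (nW W)).orderOf_dvd_natCard h1))) ?_ dvd_rfl)
        exact orderOf_dvd_of_pow_eq_one (hz2 _ h3)
      calc (g : G) * z = (g : G) * z * (g : G)⁻¹ * z⁻¹ * (z * g) := by group
        _ = z * g := by rw [h4, one_mul]
  refine ⟨rho h Fr, MonoidHom.range_eq_top.1 (range_rho h Fr h2), hkerEq, ?_⟩
  intro M hM
  subst hM
  rw [eq_top_iff]
  rintro ⟨m, hm⟩ -
  have hmz : ∀ {a : G}, a ∈ M0 → ∀ z ∈ zg W, a * z * a⁻¹ ∈ zg W := fun ha z hz =>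
    (mem_normalizer_iff.1 ha z).1 hz
  -- a Sylow argument in the centralizer
  have hconj : ∀ u ∈ wg W, m * u * m⁻¹ ∈ Cz := fun u hu => mem_centralizer_iff.2 fun z hz =>
    cent_conj hm (hWC hu) hz
  have hp : IsPGroup 2 ↥(((wg W).map (MulAut.conj m).toMonoidHom).subgroupOf Cz) :=
    ((T.isPGroup'.to_le (wg_le W)).map _).comap_subtype
  obtain ⟨S2, hS2⟩ := hp.exists_le_sylow
  obtain ⟨c, hc⟩ := MulAction.exists_smul_eq ↥Cz S2 S
  have hcm : (c : G) * m ∈ nW W := mem_normalizer_of_conj h fun u hu => wg_le W (by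
    have h1 : c * ⟨m * u * m⁻¹, hconj u hu⟩ * c⁻¹ ∈ (S : Subgroup ↥Cz) := by
      rw [← hc]
      exact ⟨⟨m * u * m⁻¹, hconj u hu⟩, hS2 (mem_subgroupOf.2 ⟨u, hu, rfl⟩), rfl⟩
    have := (hSW _).1 h1
    simpa [mul_assoc] using this)
  obtain ⟨o, ho, w, hw, hcow⟩ := hCdec _ c.2
  have hwM : w ∈ M0 := hCM (hWC hw)
  have hom : (⟨m, hm⟩ : ↥M0) = ⟨w⁻¹, inv_mem hwM⟩ * (⟨o, core_le _ ho⟩ : ↥M0)⁻¹ *
      ⟨(c : G) * m, mul_mem (hCM c.2) hm⟩ := by
    apply Subtype.ext
    show m = w⁻¹ * o⁻¹ * ((c : G) * m)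
    rw [hcow]; group
  rw [hom]
  refine mul_mem (mul_mem (mem_sup_left (mem_subgroupOf.2 (inv_mem (le_normalizer hw))))
    (inv_mem (mem_sup_right ?_))) (mem_sup_left (mem_subgroupOf.2 hcm))
  obtain ⟨o', ho', hoe⟩ := ho
  rwa [show (⟨o, core_le _ ⟨o', ho', hoe⟩⟩ : ↥M0) = o' from Subtype.ext hoe.symm]

end CfsgLib.RudNormal
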