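import Cfsg.Agent.RudNormal.Action
import Cfsg.Agent.AutFrattini.Basic
import Mathlib.Tactic.NormNum.Prime

/-!
The centralizer of the Frattini subgroup of `W` in the normalizer acts trivially on `W` modulo it.
-/

set_option autoImplicit false
set_option linter.unusedSectionVars false
set_option linter.style.haveILetI false

namespace CfsgLib.RudNormal

open Subgroup CfsgLib.Rudvalis
open scoped commutatorElement

variable {G : Type*} [Group G] [Finite G] {T : Sylow 2 G} {W : Subgroup ↥(T : Subgroup G)}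

/-- The Frattini subgroup of `W` inside `W`. -/
abbrev zin (W : Subgroup ↥(T : Subgroup G)) : Subgroup ↥(wg W) := (zg W).subgroupOf (wg W)

theorem zin_normal (h : Rud W) : (zin W).Normal :=
  ⟨fun z hz w => mem_subgroupOf.2 (by
    have h1 := comm_zg h w.2 (mem_subgroupOf.1 hz)
    show (w : G) * (z : G) * (w : G)⁻¹ ∈ zg W
    rw [← h1, mul_inv_cancel_right]
    exact mem_subgroupOf.1 hz)⟩

theorem zin_map (h : Rud W) (g : ↥(nW W)) :
    (zin W).map (normalizerMonoidHom (wg W) g).toMonoidHom = zin W := by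
  refine eq_of_le_of_card_ge ?_ (card_map_of_injective (f := (normalizerMonoidHom (wg W) g).toMonoidHom)
    (normalizerMonoidHom (wg W) g).injective).ge
  rintro _ ⟨z, hz, rfl⟩
  exact conj_mem_zg h g.2 (mem_subgroupOf.1 hz)

/-- The action of the normalizer on `W` modulo its Frattini subgroup. -/
noncomputable def theta (h : Rud W) :
    haveI := zin_normal h
    ↥(nW W) →* MulAut (↥(wg W) ⧸ zin W) :=
  haveI := zin_normal h
  MonoidHom.mk' (fun g => QuotientGroup.congr (zin W) (zin W) (normalizerMonoidHom (wg W) g) (zin_map h g))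
    fun a b => by
      ext v
      obtain ⟨w, rfl⟩ := QuotientGroup.mk_surjective v
      show ((normalizerMonoidHom (wg W) (a * b) w : ↥(wg W)) : ↥(wg W) ⧸ zin W) = _
      rw [map_mul]
      rfl

theorem theta_eq_one_iff (h : Rud W) (g : ↥(nW W)) :
    haveI := zin_normal h
    theta h g = 1 ↔ ∀ w ∈ wg W, (g : G) * w * (g : G)⁻¹ * w⁻¹ ∈ zg W := by
  haveI := zin_normal h
  constructor
  · intro e w hw
    have h1 : ((normalizerMonoidHom (wg W) g ⟨w, hw⟩ : ↥(wg W)) : ↥(wg W) ⧸ zin W) =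
        ((⟨w, hw⟩ : ↥(wg W)) : ↥(wg W) ⧸ zin W) :=
      (DFunLike.congr_fun e ((⟨w, hw⟩ : ↥(wg W)) : ↥(wg W) ⧸ zin W) :)
    have h2 := QuotientGroup.eq.1 h1.symm
    have h3 : w⁻¹ * ((g : G) * w * (g : G)⁻¹) ∈ zg W := mem_subgroupOf.1 h2
    have h4 := comm_zg h hw h3
    rw [show (g : G) * w * (g : G)⁻¹ * w⁻¹ = w * (w⁻¹ * ((g : G) * w * (g : G)⁻¹)) * w⁻¹ by group, ← h4,
      mul_inv_cancel_right]
    exact h3
  · intro e
    ext v
    obtain ⟨⟨w, hw⟩, rfl⟩ := QuotientGroup.mk_surjective v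
    show ((normalizerMonoidHom (wg W) g ⟨w, hw⟩ : ↥(wg W)) : ↥(wg W) ⧸ zin W) = _
    symm
    refine QuotientGroup.eq.2 (mem_subgroupOf.2 ?_)
    show w⁻¹ * ((g : G) * w * (g : G)⁻¹) ∈ zg W
    have h4 := comm_zg h hw (e w hw)
    rw [show w⁻¹ * ((g : G) * w * (g : G)⁻¹) = w⁻¹ * ((g : G) * w * (g : G)⁻¹ * w⁻¹ * w) by group,
      h4, inv_mul_cancel_left]
    exact e w hw

/-- The nontrivial fixed points of `T` on `W` modulo the Frattini subgroup coincide. -/
theorem fixed_unique (h : Rud W) :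
    haveI := zin_normal h
    ∀ u v : ↥(wg W) ⧸ zin W, u ≠ 1 → v ≠ 1 →
      (∀ t ∈ (tN h : Subgroup ↥(nW W)), theta h t u = u) →
      (∀ t ∈ (tN h : Subgroup ↥(nW W)), theta h t v = v) → u = v := by
  haveI := zin_normal h
  have key : ∀ w : ↥(wg W), (∀ t ∈ (tN h : Subgroup ↥(nW W)),
      theta h t (w : ↥(wg W) ⧸ zin W) = (w : ↥(wg W) ⧸ zin W)) →
      ∀ a : ↥(T : Subgroup G), (a : G) = w → (w : ↥(wg W) ⧸ zin W) ≠ 1 →
      a ∈ Subgroup.upperCentralSeries ↥(T : Subgroup G) (3 + 1) ∧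
        a ∉ Subgroup.upperCentralSeries ↥(T : Subgroup G) 3 := by
    intro w hw a ha hne
    refine ⟨Subgroup.mem_upperCentralSeries_succ_iff.2 fun t => ?_, fun hm => hne ?_⟩
    · have h1 := (QuotientGroup.eq.1 (hw ⟨t, wg_normalized h t.2⟩ (mem_subgroupOf.2 t.2)).symm)
      obtain ⟨b, hb, hbe⟩ := mem_subgroupOf.1 h1
      have hbe' : b = a⁻¹ * (t * a * t⁻¹) := Subtype.ext (by
        show (b : G) = _
        rw [show (b : G) = _ from hbe]
        show (w : G)⁻¹ * ((t : G) * (w : G) * (t : G)⁻¹) = (a : G)⁻¹ * ((t : G) * (a : G) * (t : G)⁻¹)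
        rw [ha])
      have hb' := h.phi_normal.conj_mem _ (inv_mem hb) a
      rw [hbe', h.phi_eq] at hb'
      rwa [show a * (a⁻¹ * (t * a * t⁻¹))⁻¹ * a⁻¹ = ⁅a, t⁆ * 1 by
        simp only [commutatorElement_def]; group, mul_one] at hb'
    · rw [QuotientGroup.eq_one_iff]
      exact mem_subgroupOf.2 ⟨a, h.phi_eq.symm ▸ hm, ha⟩
  intro u v hu hv hfu hfv
  obtain ⟨x, rfl⟩ := QuotientGroup.mk_surjective u
  obtain ⟨y, rfl⟩ := QuotientGroup.mk_surjective v
  obtain ⟨a, -, ha⟩ := x.2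
  obtain ⟨b, -, hb⟩ := y.2
  obtain ⟨ha4, ha3⟩ := key x hfu a ha hu
  obtain ⟨hb4, hb3⟩ := key y hfv b hb hv
  have h1 := h.ucs_step (by norm_num : 3 < 4) ha4 hb4 ha3 hb3
  refine QuotientGroup.eq.2 (mem_subgroupOf.2 ⟨a⁻¹ * b, h.phi_eq.symm ▸ h1, ?_⟩)
  rw [map_mul, map_inv, ha, hb]
  rfl

theorem wg_le_ker (h : Rud W) {w : ↥(nW W)} (hw : (w : G) ∈ wg W) :
    haveI := zin_normal h
    theta h w = 1 :=
  (theta_eq_one_iff h w).2 fun v hv => by
    have := commutator_zg h hw hv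
    rwa [commutatorElement_def] at this

theorem seven_pow (r a b : ℕ) (hr : r = 3 ∨ r = 5 ∨ r = 17) (ha : a ≤ 5) (hb : b ≤ a)
    (h : r ^ a ≡ r ^ b [MOD 7]) : a = b := by
  unfold Nat.ModEq at h
  rcases hr with rfl | rfl | rfl <;> interval_cases a <;> interval_cases b <;> simp_all

theorem exp_le (r a : ℕ) (hr : r = 3 ∨ r = 5 ∨ r = 17)
    (h : r ^ a ∣ 2 ^ (8 * (11 - 8)) * ∏ i ∈ Finset.range 8, (2 ^ 8 - 2 ^ i)) : a ≤ 5 := by
  by_contra hc
  have h6 : r ^ 6 ∣ 2 ^ (8 * (11 - 8)) * ∏ i ∈ Finset.range 8, (2 ^ 8 - 2 ^ i) :=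
    (pow_dvd_pow r (by omega)).trans h
  rcases hr with rfl | rfl | rfl <;> revert h6 <;> decide +kernel

/-- An `r`-subgroup of the centralizer of `Φ(W)` whose normalizer covers `GL(3, 2)`. -/
theorem le_ker_of_cover (h : Rud W) (Fr : Frame W) {r : ℕ} [Fact r.Prime] (hr2 : r ≠ 2)
    (R : Subgroup ↥(nW W)) (hR : R ≤ (rho h Fr).ker) (hRr : IsPGroup r R)
    (hcov : (normalizer (R : Set ↥(nW W))).map (rho h Fr) = ⊤)
    (P : Subgroup ↥(nW W)) (hP : P ≤ (tN h : Subgroup ↥(nW W)))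
    (hPR : P ≤ normalizer (R : Set ↥(nW W)))
    (hPc : ∀ t ∈ (tN h : Subgroup ↥(nW W)), ∃ p ∈ P, rho h Fr p = rho h Fr t)
    (hodd : ∀ g ∈ (rho h Fr).ker,
      haveI := zin_normal h
      Odd (orderOf (theta h g))) :
    haveI := zin_normal h
    R ≤ (theta h).ker := by
  haveI := zin_normal h
  haveI : Fact (Nat.Prime 2) := ⟨Nat.prime_two⟩
  classical
  letI : CommGroup (↥(wg W) ⧸ zin W) :=
    { (inferInstance : Group (↥(wg W) ⧸ zin W)) with
      mul_comm := fun u v => by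
        obtain ⟨a, rfl⟩ := QuotientGroup.mk_surjective u
        obtain ⟨b, rfl⟩ := QuotientGroup.mk_surjective v
        refine QuotientGroup.eq.2 (mem_subgroupOf.2 ?_)
        show ((a : G) * b)⁻¹ * ((b : G) * a) ∈ zg W
        rw [show ((a : G) * b)⁻¹ * ((b : G) * a) = ⁅(b : G)⁻¹, (a : G)⁻¹⁆ by
          simp only [commutatorElement_def]; group]
        exact commutator_zg h (inv_mem b.2) (inv_mem a.2) }
  set θ := theta h
  set RB : Subgroup (MulAut (↥(wg W) ⧸ zin W)) := R.map θ with hRB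
  suffices hbot : RB = ⊥ by
    intro x hx
    have : θ x ∈ RB := mem_map_of_mem _ hx
    rwa [hbot, mem_bot] at this
  have hRBr : IsPGroup r RB := hRr.map θ
  obtain ⟨a, hRBc⟩ := IsPGroup.iff_card.1 hRBr
  -- invariance under `T`
  have hPn : ∀ t ∈ (tN h : Subgroup ↥(nW W)), ∃ p ∈ P, θ t = θ p := by
    intro t ht
    obtain ⟨p, hp, e⟩ := hPc t ht
    refine ⟨p, hp, ?_⟩
    have hw : ((p⁻¹ * t : ↥(nW W)) : G) ∈ wg W := by
      refine cent_zg_T h (mem_subgroupOf.1 (mul_mem (inv_mem (hP hp)) ht)) ?_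
      exact (rho_eq_one_iff h Fr _).1 (by rw [map_mul, map_inv, e, inv_mul_cancel])
    have h1 : θ (p⁻¹ * t) = 1 := wg_le_ker h hw
    rw [map_mul, map_inv] at h1
    exact (inv_mul_eq_one.1 h1).symm
  have hTn : ∀ t ∈ (tN h : Subgroup ↥(nW W)), θ t ∈ normalizer (RB : Set (MulAut (↥(wg W) ⧸ zin W))) := by
    intro t ht
    obtain ⟨p, hp, e⟩ := hPn t ht
    rw [e]
    exact le_normalizer_map θ (mem_map_of_mem θ (hPR hp))
  have hV : Nat.card (↥(wg W) ⧸ zin W) = 2 ^ 8 := by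
    have h1 := card_mul_index (zin W)
    rw [Nat.card_congr (subgroupOfEquivOfLe (zg_le W)).toEquiv, card_wg h, zg,
      card_map_of_injective (T : Subgroup G).subtype_injective, h.phi_eq, h.card_ucs 3 (by norm_num),
      index_eq_card] at h1
    omega
  have hTp : IsPGroup 2 ↥((tN h : Subgroup ↥(nW W)).map θ) := (tN h).isPGroup'.map θ
  -- every nontrivial invariant subgroup has a fixed point of `T`
  have hfix : ∀ F : Subgroup (↥(wg W) ⧸ zin W), F ≠ ⊥ →
      (∀ t ∈ (tN h : Subgroup ↥(nW W)), ∀ v ∈ F, θ t v ∈ F) →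
      ∃ v ∈ F, v ≠ 1 ∧ ∀ t ∈ (tN h : Subgroup ↥(nW W)), θ t v = v := by
    intro F hF hinv
    letI : MulAction ↥(tN h : Subgroup ↥(nW W)) ↥F :=
      { smul := fun t v => ⟨θ (t : ↥(nW W)) v, hinv _ t.2 _ v.2⟩
        one_smul := fun v => Subtype.ext (by
          show θ ((1 : ↥(tN h : Subgroup ↥(nW W))) : ↥(nW W)) (v : ↥(wg W) ⧸ zin W) = v
          rw [OneMemClass.coe_one, map_one]; rfl)
        mul_smul := fun s t v => Subtype.ext (by
          show θ ((s * t : ↥(tN h : Subgroup ↥(nW W))) : ↥(nW W)) (v : ↥(wg W) ⧸ zin W) =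
            θ (s : ↥(nW W)) (θ (t : ↥(nW W)) (v : ↥(wg W) ⧸ zin W))
          rw [Subgroup.coe_mul, map_mul]; rfl) }
    have hF2 : 2 ∣ Nat.card ↥F := by
      obtain ⟨k, hk, hFc⟩ := (Nat.dvd_prime_pow Nat.prime_two).1 (hV ▸ card_subgroup_dvd_card F)
      rcases k with _ | k
      · exact absurd (card_eq_one.1 hFc) hF
      · rw [hFc]; exact dvd_pow_self 2 (by omega)
    obtain ⟨v, hv, hne⟩ := (tN h).isPGroup'.exists_fixed_point_of_prime_dvd_card_of_fixed_point ↥F hF2
      (a := 1) (fun t => Subtype.ext (map_one (θ (t : ↥(nW W)))))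
    exact ⟨v, v.2, fun e => hne (Subtype.ext e.symm), fun t ht => congrArg Subtype.val (hv ⟨t, ht⟩)⟩
  let F : Subgroup (↥(wg W) ⧸ zin W) :=
    { carrier := {v | ∀ x ∈ RB, x v = v}
      one_mem' := fun x _ => map_one x
      mul_mem' := fun {u v} hu hv x hx => by rw [map_mul, hu x hx, hv x hx]
      inv_mem' := fun {u} hu x hx => by rw [map_inv, hu x hx] }
  have hFinv : ∀ t ∈ (tN h : Subgroup ↥(nW W)), ∀ v ∈ F, θ t v ∈ F := by
    intro t ht v hv x hx
    have h1 := hv _ ((mem_normalizer_iff.1 (inv_mem (hTn t ht)) x).1 hx)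
    rw [inv_inv, MulAut.mul_apply, MulAut.mul_apply] at h1
    have := congrArg (θ t) h1
    rwa [MulAut.apply_inv_self] at this
  by_cases hF : F = ⊥
  · -- no fixed point: the prime is small
    have hr3 : r = 3 ∨ r = 5 ∨ r = 17 := by
      have h1 := hRBr.card_modEq_card_fixedPoints (↥(wg W) ⧸ zin W)
      have h2 : Nat.card (MulAction.fixedPoints ↥RB (↥(wg W) ⧸ zin W)) = 1 := by
        rw [Nat.card_eq_one_iff_unique]
        refine ⟨⟨fun u v => Subtype.ext ?_⟩, ⟨⟨1, fun x => map_one (x : MulAut (↥(wg W) ⧸ zin W))⟩⟩⟩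
        have e : ∀ u : MulAction.fixedPoints ↥RB (↥(wg W) ⧸ zin W), (u : ↥(wg W) ⧸ zin W) = 1 := fun u => by
          have hm : (u : ↥(wg W) ⧸ zin W) ∈ F := fun x hx => u.2 ⟨x, hx⟩
          rwa [hF, mem_bot] at hm
        rw [e u, e v]
      rw [h2, hV] at h1
      have h3 : r ∣ 255 := (Nat.modEq_iff_dvd' (by norm_num)).1 h1.symm
      have hrp := (Fact.out : r.Prime)
      rw [show (255 : ℕ) = 3 * (5 * 17) by norm_num, hrp.dvd_mul, hrp.dvd_mul,
        Nat.prime_dvd_prime_iff_eq hrp (by norm_num), Nat.prime_dvd_prime_iff_eq hrp (by norm_num),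
        Nat.prime_dvd_prime_iff_eq hrp (by norm_num)] at h3
      exact h3
    -- the order of `RB`
    have ha : a ≤ 5 := by
      refine exp_le r a hr3 ?_
      have hd : Nat.card ↥(R.map (normalizerMonoidHom (wg W))) ∣
          2 ^ (8 * (11 - 8)) * ∏ i ∈ Finset.range 8, (2 ^ 8 - 2 ^ i) := by
        refine (card_subgroup_dvd_card _).trans ((Nat.card_congr (MulAut.congr (W.equivMapOfInjective
          (T : Subgroup G).subtype (T : Subgroup G).subtype_injective)).toEquiv).symm.dvd.trans ?_)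
        refine CfsgLib.AutFrattini.card_mulAut_dvd h.card_facts.2.2.1 ?_
        have h1 := card_mul_index (frattini ↥W)
        rw [h.card_phi, h.card_facts.2.2.1] at h1
        omega
      refine Dvd.dvd.trans ?_ hd
      rw [← hRBc]
      let π : MulAut ↥(wg W) → MulAut (↥(wg W) ⧸ zin W) := fun f =>
        if hf : (zin W).map f.toMonoidHom = zin W then QuotientGroup.congr (zin W) (zin W) f hf else 1
      let ψ := normalizerMonoidHom (wg W)
      have hk : (ψ.comp R.subtype).ker ≤ (θ.comp R.subtype).ker := by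
        intro x hx
        rw [MonoidHom.mem_ker] at hx ⊢
        show θ (x : ↥(nW W)) = 1
        refine (theta_eq_one_iff h _).2 fun w hw => ?_
        have h1 : ((x : ↥(nW W)) : G) * w * ((x : ↥(nW W)) : G)⁻¹ = w :=
          congrArg Subtype.val (DFunLike.congr_fun hx (⟨w, hw⟩ : ↥(wg W)))
        rw [h1, mul_inv_cancel]
        exact one_mem _
      have h1 := index_dvd_of_le hk
      rw [index_ker, index_ker, MonoidHom.range_comp, MonoidHom.range_comp, range_subtype] at h1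
      exact h1
    -- an element of order seven
    set N1 := normalizer (R : Set ↥(nW W))
    have hN1R : ∀ g ∈ N1, θ g ∈ normalizer (RB : Set (MulAut (↥(wg W) ⧸ zin W))) :=
      fun g hg => le_normalizer_map θ (mem_map_of_mem θ hg)
    let ω : ↥N1 →* MulAut ↥RB := (normalizerMonoidHom RB).comp
      ((θ.comp N1.subtype).codRestrict _ fun g => hN1R g g.2)
    haveI : Fact (Nat.Prime 7) := ⟨by norm_num⟩
    obtain ⟨g₇, hg₇⟩ := exists_prime_orderOf_dvd_card' (G := GL (Fin 3) (ZMod 2)) 7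
      (by rw [HSUniq.card_gl32]; norm_num)
    obtain ⟨g, hg, hge⟩ : g₇ ∈ N1.map (rho h Fr) := hcov ▸ mem_top _
    obtain ⟨j, m, hm, hjm⟩ := Nat.exists_eq_pow_mul_and_not_dvd (orderOf_pos g).ne' 7 (by norm_num)
    set g' : ↥N1 := ⟨g ^ m, pow_mem hg m⟩ with hg'
    have hg7 : IsPGroup 7 (zpowers (ω g')) := by
      have h1 : g' ^ 7 ^ j = 1 := Subtype.ext (by
        show (g ^ m) ^ 7 ^ j = 1
        rw [← pow_mul, mul_comm, ← hjm, pow_orderOf_eq_one])
      have h2 : orderOf (ω g') ∣ 7 ^ j := orderOf_dvd_of_pow_eq_one (by rw [← map_pow, h1, map_one])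
      obtain ⟨i, -, hi⟩ := (Nat.dvd_prime_pow (by norm_num)).1 h2
      exact IsPGroup.of_card (n := i) (by rw [Nat.card_zpowers, hi])
    have hωg : ω g' = 1 := by
      let C : Subgroup ↥RB :=
        { carrier := {x | ω g' x = x}
          one_mem' := map_one _
          mul_mem' := fun {u v} hu hv => by
            show ω g' (u * v) = u * v
            rw [map_mul, show ω g' u = u from hu, show ω g' v = v from hv]
          inv_mem' := fun {u} hu => by
            show ω g' u⁻¹ = u⁻¹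
            rw [map_inv, show ω g' u = u from hu] }
      have h1 := hg7.card_modEq_card_fixedPoints ↥RB
      have hCe : Nat.card (MulAction.fixedPoints ↥(zpowers (ω g')) ↥RB) = Nat.card C := by
        refine Nat.card_congr (Equiv.subtypeEquivRight fun x => ⟨fun hx => hx ⟨_, mem_zpowers _⟩, ?_⟩)
        rintro hx ⟨y, hy⟩
        have : zpowers (ω g') ≤ MulAction.stabilizer (MulAut ↥RB) x := zpowers_le.2 hx
        exact this hy
      obtain ⟨b, hb, hCb⟩ := (Nat.dvd_prime_pow (Fact.out : r.Prime)).1 (hRBc ▸ card_subgroup_dvd_card C)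
      rw [hCe, hRBc, hCb] at h1
      have hab := seven_pow r a b hr3 ha hb h1
      have hC : C = ⊤ := eq_top_of_card_eq _ (by rw [hCb, hRBc, hab])
      refine MulEquiv.ext fun x => ?_
      have hx : x ∈ C := hC ▸ mem_top x
      exact hx
    -- so the kernel covers everything
    have hC1 : ω.ker.map ((rho h Fr).comp N1.subtype) = ⊤ := by
      have hsur : Function.Surjective ((rho h Fr).comp N1.subtype) := fun y => by
        obtain ⟨g, hg, rfl⟩ : y ∈ N1.map (rho h Fr) := hcov ▸ mem_top _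
        exact ⟨⟨g, hg⟩, rfl⟩
      haveI := HSUniq.isSimpleGroup_gl32
      refine ((MonoidHom.normal_ker ω).map _ hsur).eq_bot_or_eq_top.resolve_left fun hb => ?_
      have hm1 : rho h Fr g ^ m ∈ (⊥ : Subgroup (GL (Fin 3) (ZMod 2))) := by
        rw [← hb, ← map_pow]; exact ⟨g', hωg, rfl⟩
      rw [mem_bot, hge, ← orderOf_dvd_iff_pow_eq_one, hg₇] at hm1
      exact hm hm1
    have hPω : ∀ p ∈ P, ∀ x ∈ RB, θ p * x = x * θ p := by
      intro p hp x hx
      obtain ⟨c, hc, hce⟩ : rho h Fr p ∈ ω.ker.map ((rho h Fr).comp N1.subtype) := hC1 ▸ mem_top _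
      set pp : ↥N1 := ⟨p, hPR hp⟩
      set q : ↥N1 := c⁻¹ * pp
      have hq : (q : ↥(nW W)) ∈ (rho h Fr).ker := by
        have h0 : rho h Fr (c : ↥(nW W)) = rho h Fr p := hce
        rw [MonoidHom.mem_ker]
        show rho h Fr ((c : ↥(nW W))⁻¹ * p) = 1
        rw [map_mul, map_inv, h0, inv_mul_cancel]
      have hωp : ω pp = ω q := by
        rw [show ω q = (ω c)⁻¹ * ω pp by simp [q], MonoidHom.mem_ker.1 hc, inv_one, one_mul]
      obtain ⟨k, hk⟩ := (tN h).isPGroup' ⟨p, hP hp⟩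
      have h1 : ω pp ^ 2 ^ k = 1 := by
        rw [← map_pow, show pp ^ 2 ^ k = 1 from Subtype.ext (show p ^ 2 ^ k = 1 from congrArg Subtype.val hk), map_one]
      have h2 : ω pp ^ orderOf (θ (q : ↥(nW W))) = 1 := by
        rw [hωp, ← map_pow]
        refine MulEquiv.ext fun y => Subtype.ext ?_
        show θ ((q ^ orderOf (θ (q : ↥(nW W))) : ↥N1) : ↥(nW W)) * (y : MulAut _) *
          (θ ((q ^ orderOf (θ (q : ↥(nW W))) : ↥N1) : ↥(nW W)))⁻¹ = (y : MulAut _)
        rw [SubmonoidClass.coe_pow, map_pow, pow_orderOf_eq_one, one_mul, inv_one, mul_one]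
      have h3 : ω pp = 1 := by
        rw [← orderOf_eq_one_iff]
        exact Nat.eq_one_of_dvd_coprimes ((Nat.coprime_two_left.2 (hodd _ hq)).pow_left k)
          (orderOf_dvd_of_pow_eq_one h1) (orderOf_dvd_of_pow_eq_one h2)
      have h4 : θ p * x * (θ p)⁻¹ = x := congrArg Subtype.val (DFunLike.congr_fun h3 (⟨x, hx⟩ : ↥RB))
      calc θ p * x = θ p * x * (θ p)⁻¹ * θ p := by group
        _ = x * θ p := by rw [h4]
    rw [eq_bot_iff]
    rintro _ ⟨x, hx, rfl⟩
    rw [mem_bot]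
    set K := (tN h : Subgroup ↥(nW W)) ⊔ θ.ker
    have hxK : x ∈ K := by
      refine self_norm h le_sup_left (fun o ho => mem_sup_right (MonoidHom.mem_ker.2 ?_)) x fun y hy => ?_
      · refine (theta_eq_one_iff h o).2 fun w hw => ?_
        rw [ho w (wg_le W hw), mul_inv_cancel_right, mul_inv_cancel]
        exact one_mem _
      · obtain ⟨p, hp, hyp⟩ := hPn y hy
        have h1 : θ (x * y * x⁻¹ * y⁻¹) = 1 := by
          rw [map_mul, map_mul, map_mul, map_inv, map_inv, hyp,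
            ← hPω p hp _ (mem_map_of_mem θ hx), mul_inv_cancel_right, mul_inv_cancel]
        have h2 := K.mul_mem (mem_sup_right (MonoidHom.mem_ker.2 h1) : x * y * x⁻¹ * y⁻¹ ∈ K)
          (mem_sup_left hy)
        rwa [inv_mul_cancel_right] at h2
    obtain ⟨y, hy, z, hz, rfl⟩ := mem_sup_of_normal_right.1 hxK
    rw [map_mul, MonoidHom.mem_ker.1 hz, mul_one]
    rw [← orderOf_eq_one_iff]
    obtain ⟨k, hk⟩ := (tN h).isPGroup' ⟨y, hy⟩
    refine Nat.eq_one_of_dvd_coprimes ((Nat.coprime_two_left.2 (hodd _ (hR hx))).pow_left k)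
      (orderOf_dvd_of_pow_eq_one (by
        rw [← map_pow, show y ^ 2 ^ k = 1 from congrArg Subtype.val hk, map_one])) ?_
    rw [map_mul, MonoidHom.mem_ker.1 hz, mul_one]
  · -- a fixed point: the average is injective
    obtain ⟨v₀, hv₀F, hv₀, hv₀T⟩ := hfix F hF hFinv
    haveI : Fintype ↥RB := Fintype.ofFinite _
    let Pm : (↥(wg W) ⧸ zin W) →* (↥(wg W) ⧸ zin W) :=
      MonoidHom.mk' (fun v => ∏ x : ↥RB, (x : MulAut (↥(wg W) ⧸ zin W)) v) fun u v => by
        rw [← Finset.prod_mul_distrib]; exact Finset.prod_congr rfl fun x _ => map_mul _ u v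
    have hrange : ∀ v, Pm v ∈ F := by
      intro v y hy
      show y (∏ x : ↥RB, (x : MulAut (↥(wg W) ⧸ zin W)) v) = ∏ x : ↥RB, (x : MulAut (↥(wg W) ⧸ zin W)) v
      rw [map_prod]
      exact Fintype.prod_equiv (Equiv.mulLeft (⟨y, hy⟩ : ↥RB)) _ _ fun x => rfl
    have hinj : Function.Injective Pm := by
      rw [← MonoidHom.ker_eq_bot_iff]
      by_contra hk
      obtain ⟨v, hv, hv1, hvT⟩ := hfix Pm.ker hk (fun t ht v hv => by
        rw [MonoidHom.mem_ker] at hv ⊢
        show ∏ x : ↥RB, (x : MulAut (↥(wg W) ⧸ zin W)) (θ t v) = 1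
        let e : ↥RB ≃ ↥RB :=
          { toFun := fun x => ⟨θ t * x * (θ t)⁻¹, (mem_normalizer_iff.1 (hTn t ht) _).1 x.2⟩
            invFun := fun x => ⟨(θ t)⁻¹ * x * θ t, by
              have := (mem_normalizer_iff.1 (inv_mem (hTn t ht)) _).1 x.2
              rwa [inv_inv] at this⟩
            left_inv := fun x => Subtype.ext (by
              show (θ t)⁻¹ * (θ t * (x : MulAut (↥(wg W) ⧸ zin W)) * (θ t)⁻¹) * θ t = (x : MulAut (↥(wg W) ⧸ zin W))
              group)
            right_inv := fun x => Subtype.ext (by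
              show θ t * ((θ t)⁻¹ * (x : MulAut (↥(wg W) ⧸ zin W)) * θ t) * (θ t)⁻¹ = (x : MulAut (↥(wg W) ⧸ zin W))
              group) }
        rw [← Equiv.prod_comp e]
        have : ∀ x : ↥RB, ((e x : ↥RB) : MulAut _) (θ t v) = θ t ((x : MulAut (↥(wg W) ⧸ zin W)) v) := fun x => by
          show (θ t * (x : MulAut (↥(wg W) ⧸ zin W)) * (θ t)⁻¹) (θ t v) = _
          rw [MulAut.mul_apply, MulAut.mul_apply, MulAut.inv_apply_self]
        rw [Finset.prod_congr rfl fun x _ => this x, ← map_prod,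
          show ∏ x : ↥RB, (x : MulAut (↥(wg W) ⧸ zin W)) v = 1 from hv, map_one])
      have hvv := fixed_unique h v v₀ hv1 hv₀ hvT hv₀T
      have h1 : ∏ x : ↥RB, (x : MulAut (↥(wg W) ⧸ zin W)) v₀ = 1 := hvv ▸ MonoidHom.mem_ker.1 hv
      rw [Finset.prod_congr rfl fun (x : ↥RB) _ => hv₀F (x : MulAut (↥(wg W) ⧸ zin W)) x.2, Finset.prod_const, Finset.card_univ] at h1
      have hd1 := orderOf_dvd_of_pow_eq_one h1
      rw [← Nat.card_eq_fintype_card, hRBc] at hd1
      have hd2 : orderOf v₀ ∣ 2 ^ 8 := hV ▸ orderOf_dvd_natCard v₀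
      exact hv₀ (orderOf_eq_one_iff.1 (Nat.eq_one_of_dvd_coprimes
        ((Nat.coprime_primes (Fact.out : r.Prime) Nat.prime_two).2 hr2 |>.pow a 8) hd1 hd2))
    rw [eq_bot_iff]
    intro x hx
    rw [mem_bot]
    ext v
    obtain ⟨u, rfl⟩ := (Finite.injective_iff_surjective.1 hinj) v
    exact hrange u x hx

end CfsgLib.RudNormal
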