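import Mathlib.GroupTheory.Index
import Mathlib.GroupTheory.GroupAction.Quotient
import Mathlib.GroupTheory.Sylow
import Mathlib.Data.ZMod.Basic
import Mathlib.Data.Fintype.Parity
import Cfsg.Agent.Solvable.PGroupBasic

/-!
The transfer into a group of order two, split along orbits.
-/

set_option autoImplicit false
set_option linter.unusedSectionVars false
set_option linter.style.haveILetI false

namespace CfsgLib.RudNormal

open Subgroup

variable {G : Type*} [Group G] [Finite G] {H : Subgroup G}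

/-- The cocycle of the transfer. -/
noncomputable def cc (f : G → ZMod 2) (x : G) (q : G ⧸ H) : ZMod 2 :=
  f ((x • q).out⁻¹ * (x * q.out))

theorem mem_cc (x : G) (q : G ⧸ H) : (x • q).out⁻¹ * (x * q.out) ∈ H := by
  refine QuotientGroup.eq.1 ?_
  rw [QuotientGroup.out_eq', ← smul_eq_mul x q.out, ← MulAction.Quotient.smul_mk,
    QuotientGroup.out_eq']

/-- The sum of the cocycle over a set of cosets. -/
noncomputable def tsum' (f : G → ZMod 2) (P : Finset (G ⧸ H)) (x : G) : ZMod 2 :=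
  ∑ q ∈ P, cc f x q

variable {f : G → ZMod 2} (hf : ∀ a ∈ H, ∀ b ∈ H, f (a * b) = f a + f b)

include hf in
theorem cc_mul (x y : G) (q : G ⧸ H) : cc f (x * y) q = cc f x (y • q) + cc f y q := by
  unfold cc
  rw [← hf _ (mem_cc _ _) _ (mem_cc _ _), mul_smul]
  congr 1
  group

include hf in
theorem cc_one (q : G ⧸ H) : cc f 1 q = 0 := by
  have := cc_mul hf 1 1 q
  rw [one_mul, one_smul] at this
  exact left_eq_add.1 this

/-- Sums over permuted sets. -/
theorem sum_smul {P Q : Finset (G ⧸ H)} (y : G) (hy : ∀ q, q ∈ P ↔ y • q ∈ Q)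
    (g : G ⧸ H → ZMod 2) : ∑ q ∈ P, g (y • q) = ∑ q ∈ Q, g q := by
  refine Finset.sum_bij (fun q _ => y • q) (fun q hq => (hy q).1 hq) (fun a _ b _ e => MulAction.injective y e)
    (fun q hq => ⟨y⁻¹ • q, (hy _).2 (by rwa [smul_inv_smul]), smul_inv_smul _ _⟩) fun q _ => rfl

include hf in
theorem tsum'_mul {P : Finset (G ⧸ H)} (x y : G) (hy : ∀ q, q ∈ P ↔ y • q ∈ P) :
    tsum' f P (x * y) = tsum' f P x + tsum' f P y := by
  simp only [tsum', cc_mul hf, Finset.sum_add_distrib]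
  rw [sum_smul y hy (fun q => cc f x q)]

variable [DecidableEq (G ⧸ H)]

theorem tsum'_union {P Q : Finset (G ⧸ H)} (hd : Disjoint P Q) (x : G) :
    tsum' f (P ∪ Q) x = tsum' f P x + tsum' f Q x :=
  Finset.sum_union hd

/-- Two blocks, exchanged or fixed by `x`, and exchanged by `w`. -/
structure Halves (P P₁ : Finset (G ⧸ H)) (A M : Subgroup G) : Prop where
  sub : P₁ ⊆ P
  inv : ∀ a ∈ A, ∀ q, q ∈ P ↔ a • q ∈ P
  keep : ∀ a ∈ M, ∀ q, q ∈ P₁ ↔ a • q ∈ P₁
  swap : ∀ a ∈ A, a ∉ M → ∀ q ∈ P, (a • q ∈ P₁ ↔ q ∉ P₁)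

variable {P P₁ : Finset (G ⧸ H)} {A M : Subgroup G}

theorem Halves.card_even (hh : Halves P P₁ A M) {w : G} (hw : w ∈ A) (hwM : w ∉ M) :
    Even P.card := by
  classical
  have h : (P \ P₁).card = P₁.card := by
    refine Finset.card_bij (fun q _ => w • q) ?_ (fun a _ b _ e => MulAction.injective w e) ?_
    · intro q hq
      rw [Finset.mem_sdiff] at hq
      exact (hh.swap w hw hwM q hq.1).2 hq.2
    · intro q hq
      refine ⟨w⁻¹ • q, ?_, smul_inv_smul _ _⟩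
      have hqP : w⁻¹ • q ∈ P := (hh.inv w⁻¹ (inv_mem hw) q).1 (hh.sub hq)
      rw [Finset.mem_sdiff]
      exact ⟨hqP, (hh.swap w hw hwM _ hqP).1 (by rwa [smul_inv_smul])⟩
  refine ⟨P₁.card, ?_⟩
  rw [← Finset.card_sdiff_add_card_eq_card hh.sub, h]

include hf in
/-- If `x` exchanges the halves, the sum over both is the sum of `x ^ 2` over one. -/
theorem Halves.sum_swap (hh : Halves P P₁ A M) {x : G} (hx : x ∈ A) (hxM : x ∉ M) :
    tsum' f P x = tsum' f P₁ (x * x) := by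
  classical
  have hP : P = P₁ ∪ P \ P₁ := by rw [Finset.union_sdiff_of_subset hh.sub]
  have h2 : ∑ q ∈ P₁, cc f x (x • q) = ∑ q ∈ P \ P₁, cc f x q := by
    refine sum_smul x (fun q => ?_) _
    constructor
    · intro hq
      rw [Finset.mem_sdiff]
      refine ⟨(hh.inv x hx q).1 (hh.sub hq), fun hc => ?_⟩
      exact (hh.swap x hx hxM q (hh.sub hq)).1 hc hq
    · intro hq
      rw [Finset.mem_sdiff] at hq
      have hqP : q ∈ P := (hh.inv x hx q).2 hq.1
      by_contra hc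
      exact hq.2 ((hh.swap x hx hxM q hqP).2 hc)
  rw [hP, tsum'_union Finset.disjoint_sdiff, add_comm]
  simp only [tsum', cc_mul hf, Finset.sum_add_distrib, h2]

include hf in
/-- If `x` fixes the halves, the sum over both is the sum of `x * (w⁻¹ * x * w)` over one. -/
theorem Halves.sum_keep (hh : Halves P P₁ A M) {x w : G} (hx : x ∈ M) (hxA : x ∈ A) (hw : w ∈ A)
    (hwM : w ∉ M) (hc : w⁻¹ * x * w ∈ M) :
    tsum' f P x = tsum' f P₁ (x * (w⁻¹ * x * w)) := by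
  classical
  have hP : P = P₁ ∪ P \ P₁ := by rw [Finset.union_sdiff_of_subset hh.sub]
  have hperm : ∀ q, q ∈ P₁ ↔ w • q ∈ P \ P₁ := by
    intro q
    constructor
    · intro hq
      rw [Finset.mem_sdiff]
      exact ⟨(hh.inv w hw q).1 (hh.sub hq), fun hc' => (hh.swap w hw hwM q (hh.sub hq)).1 hc' hq⟩
    · intro hq
      rw [Finset.mem_sdiff] at hq
      have hqP : q ∈ P := (hh.inv w hw q).2 hq.1
      by_contra hc'
      exact hq.2 ((hh.swap w hw hwM q hqP).2 hc')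
  have e1 : tsum' f (P \ P₁) x + tsum' f P₁ w = tsum' f P₁ (x * w) := by
    simp only [tsum', cc_mul hf, Finset.sum_add_distrib]
    rw [sum_smul w hperm (fun q => cc f x q)]
  have e2 : tsum' f P₁ (x * w) = tsum' f P₁ w + tsum' f P₁ (w⁻¹ * x * w) := by
    rw [← tsum'_mul hf w _ (hh.keep _ hc)]
    congr 1
    group
  rw [hP, tsum'_union Finset.disjoint_sdiff, tsum'_mul hf _ _ (hh.keep _ hc)]
  have e3 : tsum' f (P \ P₁) x = tsum' f P₁ (w⁻¹ * x * w) := by
    rw [e2, add_comm] at e1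
    exact add_left_cancel e1
  rw [e3]

/-- An orbit with more than one point of a 2-group has halves. -/
theorem exists_halves (hA : IsPGroup 2 A) {q₀ : G ⧸ H} {a₀ : G} (ha₀ : a₀ ∈ A) (hmv : a₀ • q₀ ≠ q₀) :
    ∃ (P P₁ : Finset (G ⧸ H)) (M : Subgroup G), q₀ ∈ P₁ ∧ (∀ q, q ∈ P ↔ ∃ a ∈ A, a • q₀ = q) ∧
      M ≤ A ∧ Nat.card A = 2 * Nat.card M ∧ (∀ a ∈ A, a * a ∈ M) ∧
      (∀ a ∈ A, ∀ m ∈ M, a⁻¹ * m * a ∈ M) ∧ (∃ w ∈ A, w ∉ M) ∧ Halves P P₁ A M := by
  classical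
  haveI : Fintype (G ⧸ H) := Fintype.ofFinite _
  haveI : Fact (Nat.Prime 2) := ⟨Nat.prime_two⟩
  let S : Subgroup ↥A := MulAction.stabilizer ↥A q₀
  have hS : S ≠ ⊤ := fun e => hmv (by
    have h := (eq_top_iff' S).1 e ⟨a₀, ha₀⟩
    exact h)
  obtain ⟨K, hK, hSK⟩ := (eq_top_or_exists_le_coatom S).resolve_left hS
  obtain ⟨hKn, hKi⟩ := CfsgLib.PGroupBasic.coatom_normal_index hA hK
  refine ⟨Finset.univ.filter (fun q => ∃ a ∈ A, a • q₀ = q),
    Finset.univ.filter (fun q => ∃ a ∈ K.map A.subtype, a • q₀ = q), K.map A.subtype,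
    Finset.mem_filter.2 ⟨Finset.mem_univ _, 1, one_mem _, one_smul _ _⟩, fun q => by simp,
    map_subtype_le _, ?_, ?_, ?_, ?_, ?_⟩
  · rw [card_map_of_injective A.subtype_injective, ← card_mul_index K, hKi, mul_comm]
  · intro a ha
    exact ⟨⟨a, ha⟩ * ⟨a, ha⟩, mul_self_mem_of_index_two hKi _, rfl⟩
  · rintro a ha _ ⟨m, hm, rfl⟩
    exact ⟨⟨a, ha⟩⁻¹ * m * ⟨a, ha⟩, by simpa using hKn.conj_mem m hm ⟨a, ha⟩⁻¹, rfl⟩
  · obtain ⟨y, hy⟩ : ∃ y : ↥A, y ∉ K := by
      by_contra hc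
      push Not at hc
      exact hK.1 ((eq_top_iff' K).2 hc)
    exact ⟨y, y.2, fun ⟨b, hb, e⟩ => hy (Subtype.ext e ▸ hb)⟩
  · refine ⟨?_, ?_, ?_, ?_⟩
    · intro q hq
      obtain ⟨a, ha, e⟩ := (Finset.mem_filter.1 hq).2
      exact Finset.mem_filter.2 ⟨Finset.mem_univ _, a, map_subtype_le _ ha, e⟩
    · intro a ha q
      simp only [Finset.mem_filter, Finset.mem_univ, true_and]
      exact ⟨fun ⟨b, hb, e⟩ => ⟨a * b, mul_mem ha hb, by rw [mul_smul, e]⟩,
        fun ⟨b, hb, e⟩ => ⟨a⁻¹ * b, mul_mem (inv_mem ha) hb, by rw [mul_smul, e, inv_smul_smul]⟩⟩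
    · intro a ha q
      simp only [Finset.mem_filter, Finset.mem_univ, true_and]
      exact ⟨fun ⟨b, hb, e⟩ => ⟨a * b, mul_mem ha hb, by rw [mul_smul, e]⟩,
        fun ⟨b, hb, e⟩ => ⟨a⁻¹ * b, mul_mem (inv_mem ha) hb, by rw [mul_smul, e, inv_smul_smul]⟩⟩
    · intro a ha haM q hq
      simp only [Finset.mem_filter, Finset.mem_univ, true_and] at hq ⊢
      obtain ⟨b, hb, rfl⟩ := hq
      -- membership in the first half is membership in `K`
      have key : ∀ c : ↥A, (∃ d ∈ K.map A.subtype, d • q₀ = (c : G) • q₀) ↔ c ∈ K := by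
        intro c
        constructor
        · rintro ⟨_, ⟨d, hd, rfl⟩, e⟩
          have h1 : d⁻¹ * c ∈ S := by
            show ((d⁻¹ * c : ↥A) : G) • q₀ = q₀
            rw [Subgroup.coe_mul, mul_smul, ← e, Subgroup.coe_inv]
            exact inv_smul_smul _ _
          have := mul_mem hd (hSK h1)
          rwa [mul_inv_cancel_left] at this
        · exact fun hc => ⟨c, ⟨c, hc, rfl⟩, rfl⟩
      rw [key ⟨b, hb⟩, ← mul_smul, show a * b = ((⟨a, ha⟩ * ⟨b, hb⟩ : ↥A) : G) from rfl, key,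
        mul_mem_iff_of_index_two hKi]
      have haK : (⟨a, ha⟩ : ↥A) ∉ K := fun h => haM ⟨_, h, rfl⟩
      tauto

end CfsgLib.RudNormal
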