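import Cfsg.Agent.FGSB.Rudvalis.Main
import Cfsg.Agent.Solvable.Basics

/-!
Large subgroups with central squares and commutators in a 2-group of Rudvalis type lie in `W`.
-/

set_option autoImplicit false
set_option linter.unusedSectionVars false
set_option linter.style.haveILetI false

namespace CfsgLib.RudNormal

open Subgroup CfsgLib.Rudvalis
open scoped commutatorElement

variable {T : Type*} [Group T] [Finite T] {W : Subgroup T}

theorem phi_le_of_card (h : Rud W) {U : Subgroup T} (hU : U ≤ W) (h7 : 2 ^ 7 ≤ Nat.card U) :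
    phi W ≤ U := by
  have hidx : (U.subgroupOf W).index ≤ 16 := by
    have h1 := card_mul_index (U.subgroupOf W)
    rw [h.card_facts.2.2.1, Nat.card_congr (subgroupOfEquivOfLe hU).toEquiv] at h1
    nlinarith
  rintro _ ⟨a, ha, rfl⟩
  exact h.thin _ hidx ha

/-- An additive function on a large subgroup of `W` kills the Frattini subgroup of `W`. -/
theorem vanish (h : Rud W) {U : Subgroup T} (hU : U ≤ W) (h8 : 2 ^ 8 ≤ Nat.card U)
    (f : T → ZMod 2) (hf : ∀ a ∈ U, ∀ b ∈ U, f (a * b) = f a + f b) {z : T} (hz : z ∈ phi W) :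
    f z = 0 := by
  have h1 : f 1 = 0 := by simpa using hf 1 (one_mem _) 1 (one_mem _)
  let K : Subgroup T :=
    { carrier := {a | a ∈ U ∧ f a = 0}
      one_mem' := ⟨one_mem _, h1⟩
      mul_mem' := fun {a b} ha hb => ⟨mul_mem ha.1 hb.1, by rw [hf a ha.1 b hb.1, ha.2, hb.2, add_zero]⟩
      inv_mem' := fun {a} ha => ⟨inv_mem ha.1, by
        have := hf a ha.1 a⁻¹ (inv_mem ha.1)
        rw [mul_inv_cancel, h1, ha.2, zero_add] at this
        exact this.symm⟩ }
  have hK : Nat.card U ≤ 2 * Nat.card K := by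
    refine card_le_two_mul fun a ha b hb hak hbk => ⟨mul_mem (inv_mem ha) hb, ?_⟩
    have e : ∀ x : ZMod 2, x ≠ 0 → x = 1 := by decide
    have ha1 := e _ fun e => hak ⟨ha, e⟩
    have hb1 := e _ fun e => hbk ⟨hb, e⟩
    have := hf a ha (a⁻¹ * b) (mul_mem (inv_mem ha) hb)
    rw [mul_inv_cancel_left, ha1, hb1] at this
    revert this; generalize f (a⁻¹ * b) = x; revert x; decide
  exact (phi_le_of_card h (show K ≤ W from fun a ha => hU ha.1) (by omega) hz).2

theorem le_of_central (h : Rud W) {X : Subgroup T} (hX : 2 ^ 10 ≤ Nat.card X)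
    (hsq : ∀ a ∈ X, a ^ 2 ∈ centralizer (X : Set T))
    (hcm : ∀ a ∈ X, ∀ b ∈ X, ⁅a, b⁆ ∈ centralizer (X : Set T)) : X ≤ W := by
  classical
  haveI := h.normal
  set U := W ⊓ X with hUdef
  have hsup := CfsgLib.Solvable.card_sup_mul_card_inf
    (le_normalizer_of_normal : X ≤ normalizer (W : Set T))
  rw [h.card_facts.2.2.1, inf_comm, ← hUdef] at hsup
  have hle : Nat.card ↥(X ⊔ W) ≤ 2 ^ 14 := h.card_facts.2.2.2 ▸ card_le_card_group _
  have hU7 : 2 ^ 7 ≤ Nat.card U := by nlinarith
  have hΦU : phi W ≤ U := phi_le_of_card h inf_le_left hU7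
  set D := phi W ⊓ centralizer (X : Set T) with hDdef
  by_cases hcase : phi W ≤ centralizer (X : Set T)
  · intro x hx
    refine (SetLike.ext_iff.1 h.w_eq x).2 (mem_centralizer_iff.2 fun a ha => ?_)
    exact (mem_centralizer_iff.1 (hcase (h.phi_eq.symm ▸ ha)) x hx).symm
  exfalso
  obtain ⟨z, hz, hzc⟩ := SetLike.not_le_iff_exists.1 hcase
  have hD : ∀ a ∈ phi W, ∀ x ∈ X, ⁅a, x⁆ ∈ D := fun a ha x hx =>
    ⟨by
      have := h.phi_normal.conj_mem _ (inv_mem ha) x
      rw [commutatorElement_def, mul_assoc, mul_assoc, ← mul_assoc x]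
      exact mul_mem ha this,
      hcm a (hΦU ha).2 x hx⟩
  have hUsq : ∀ u ∈ U, u ^ 2 ∈ D := fun u hu => ⟨h.sq_mem_phi hu.1, hsq u hu.2⟩
  rcases le_or_gt (2 ^ 8) (Nat.card U) with h8 | h8
  · -- a subgroup of index two in `U` that misses `z`
    obtain ⟨K, ⟨hKU, hDK, hzK⟩, hmax⟩ := Set.Finite.exists_maximalFor (fun K : Subgroup T => K)
      {K : Subgroup T | K ≤ U ∧ D ≤ K ∧ z ∉ K} (Set.toFinite _)
      ⟨D, (inf_le_left : D ≤ phi W).trans hΦU, le_rfl, fun hzD => hzc hzD.2⟩
    have hUcm : ∀ a ∈ U, ∀ b ∈ U, ⁅a, b⁆ ∈ K := fun a ha b hb =>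
      hDK ⟨h.commutator_mem_phi ha.1 hb.1, hcm a ha.2 b hb.2⟩
    have step : ∀ a ∈ U, a ∉ K → a⁻¹ * z ∈ K := by
      intro a ha haK
      have hmul : ∀ u ∈ U, ∀ v ∈ U, u * v ∈ K → v * u ∈ K := fun u hu v hv huv => by
        have := mul_mem (hUcm v hv u hu) huv
        rwa [commutatorElement_def, show v * u * v⁻¹ * u⁻¹ * (u * v) = v * u by group] at this
      have haa : a * a ∈ K := by have := hDK (hUsq a ha); rwa [pow_two] at this
      have hconj : ∀ k ∈ K, a * k * a⁻¹ ∈ K := fun k hk => by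
        have := mul_mem (hUcm a ha k (hKU hk)) hk
        rwa [commutatorElement_def, show a * k * a⁻¹ * k⁻¹ * k = a * k * a⁻¹ by group] at this
      have hkey : ∀ u ∈ U, a⁻¹ * u ∈ K ↔ a * u ∈ K := fun u _ => by
        constructor <;> intro hu
        · have := mul_mem haa hu; rwa [show a * a * (a⁻¹ * u) = a * u by group] at this
        · have := mul_mem (inv_mem haa) hu; rwa [show (a * a)⁻¹ * (a * u) = a⁻¹ * u by group] at this
      let K' : Subgroup T :=
        { carrier := {u | u ∈ U ∧ (u ∈ K ∨ a⁻¹ * u ∈ K)}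
          one_mem' := ⟨one_mem _, Or.inl (one_mem _)⟩
          mul_mem' := by
            rintro u v ⟨hu, hu'⟩ ⟨hv, hv'⟩
            refine ⟨mul_mem hu hv, ?_⟩
            rcases hu' with hu' | hu' <;> rcases hv' with hv' | hv'
            · exact Or.inl (mul_mem hu' hv')
            · refine Or.inr ?_
              have h1 := hconj u hu'
              have h2 := mul_mem (hUcm a⁻¹ (inv_mem ha) u hu) (mul_mem hu' hv')
              rwa [commutatorElement_def,
                show a⁻¹ * u * a⁻¹⁻¹ * u⁻¹ * (u * (a⁻¹ * v)) = a⁻¹ * (u * v) by group] at h2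
            · exact Or.inr (by rw [← mul_assoc]; exact mul_mem hu' hv')
            · refine Or.inl ?_
              have h1 := hconj _ hu'
              rw [show a * (a⁻¹ * u) * a⁻¹ = u * a⁻¹ by group] at h1
              have h2 := mul_mem h1 (mul_mem haa hv')
              rwa [show u * a⁻¹ * (a * a * (a⁻¹ * v)) = u * v by group] at h2
          inv_mem' := by
            rintro u ⟨hu, hu' | hu'⟩
            · exact ⟨inv_mem hu, Or.inl (inv_mem hu')⟩
            · refine ⟨inv_mem hu, Or.inr ((hkey _ (inv_mem hu)).2 ?_)⟩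
              have h1 := hmul _ (inv_mem hu) _ ha (by simpa [mul_inv_rev] using inv_mem hu')
              exact h1 }
      by_contra hz'
      have hlt : K ≤ K' := fun k hk => ⟨hKU hk, Or.inl hk⟩
      have haK' : a ∈ K' := ⟨ha, Or.inr (by rw [inv_mul_cancel]; exact one_mem _)⟩
      have hzK' : z ∉ K' := fun hh => hh.2.elim hzK hz'
      exact haK (hmax (j := K') ⟨fun u hu => hu.1, hDK.trans hlt, hzK'⟩ hlt haK')
    have hK : Nat.card U ≤ 2 * Nat.card K := by
      refine card_le_two_mul fun a ha b hb haK hbK => ?_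
      have := mul_mem (step a ha haK) (inv_mem (step b hb hbK))
      simpa [mul_assoc] using this
    exact hzK (phi_le_of_card h (hKU.trans inf_le_left) (by omega) hz)
  · -- `X W = T`
    have hsup' : X ⊔ W = ⊤ := by
      refine eq_top_of_card_eq _ ?_
      rw [h.card_facts.2.2.2]
      obtain ⟨k, hk⟩ := IsPGroup.iff_card.1 (h.pgroup.to_subgroup U)
      rw [hk] at h8 hU7 hsup
      have := (Nat.pow_lt_pow_iff_right (le_refl 2)).1 h8
      have := (Nat.pow_le_pow_iff_right (le_refl 2)).1 hU7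
      rw [show k = 7 by omega] at hsup
      nlinarith
    have hDZ : ∀ d ∈ D, d ∈ Subgroup.upperCentralSeries T 1 := by
      intro d hd
      rw [Subgroup.upperCentralSeries_one, mem_center_iff]
      intro t
      have hle : X ⊔ W ≤ centralizer {d} := sup_le
        (fun x hx => mem_centralizer_singleton_iff.2 (mem_centralizer_iff.1 hd.2 x hx))
        (fun w hw => mem_centralizer_singleton_iff.2 (h.comm_phi hw hd.1).symm)
      exact mem_centralizer_singleton_iff.1 (hle (hsup' ▸ mem_top t))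
    obtain ⟨e3, he3, he3'⟩ := h.exists_gen (i := 2) (by norm_num)
    refine he3' (Subgroup.mem_upperCentralSeries_succ_iff.2 fun t => ?_)
    obtain ⟨x, hx, w, hw, rfl⟩ : ∃ x ∈ X, ∃ w ∈ W, x * w = t := by
      have ht : t ∈ X ⊔ W := hsup' ▸ mem_top t
      exact mem_sup_of_normal_right.1 ht
    have he3W : ⁅e3, w⁆ = 1 :=
      commutatorElement_eq_one_iff_mul_comm.2 (h.comm_phi hw (h.phi_eq.symm ▸ he3))
    rw [show ⁅e3, x * w⁆ = ⁅e3, x⁆ * (x * ⁅e3, w⁆ * x⁻¹) by simp only [commutatorElement_def]; group,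
      he3W, mul_one, mul_inv_cancel, mul_one]
    exact hDZ _ (hD e3 (h.phi_eq.symm ▸ he3) x hx)

end CfsgLib.RudNormal
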