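import Cfsg.Agent.RudNormal.Thin
import Cfsg.Agent.RudNormal.Sum

/-!
No subgroup of index two: the normalizer of `W` has no quotient of order two over `W`.
-/

set_option autoImplicit false
set_option linter.unusedSectionVars false
set_option linter.style.haveILetI false

namespace CfsgLib.RudNormal

open Subgroup CfsgLib.Rudvalis
open scoped commutatorElement

variable {G : Type*} [Group G] [Finite G] {T : Sylow 2 G} {W : Subgroup ↥(T : Subgroup G)}

/-- `W` in the big group. -/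
def wg (W : Subgroup ↥(T : Subgroup G)) : Subgroup G := W.map (T : Subgroup G).subtype

/-- The Frattini subgroup of `W` in the big group. -/
def zg (W : Subgroup ↥(T : Subgroup G)) : Subgroup G := (phi W).map (T : Subgroup G).subtype

theorem wg_le (W : Subgroup ↥(T : Subgroup G)) : wg W ≤ (T : Subgroup G) := map_subtype_le _

theorem zg_le (W : Subgroup ↥(T : Subgroup G)) : zg W ≤ wg W := map_mono (phi_le W)

theorem wg_normalized (h : Rud W) : (T : Subgroup G) ≤ normalizer (wg W : Set G) := by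
  haveI := h.normal
  intro t ht
  refine mem_normalizer_iff.2 fun x => ?_
  constructor
  · rintro ⟨y, hy, rfl⟩
    exact ⟨⟨t, ht⟩ * y * ⟨t, ht⟩⁻¹, h.normal.conj_mem y hy _, rfl⟩
  · rintro ⟨y, hy, e⟩
    refine ⟨⟨t, ht⟩⁻¹ * y * ⟨t, ht⟩, by simpa using h.normal.conj_mem y hy ⟨t, ht⟩⁻¹, ?_⟩
    show t⁻¹ * (y : G) * t = x
    rw [show (y : G) = t * x * t⁻¹ from e]; group

theorem card_wg (h : Rud W) : Nat.card ↥(wg W) = 2 ^ 11 := by
  rw [wg, card_map_of_injective (T : Subgroup G).subtype_injective]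
  exact h.card_facts.2.2.1

theorem comm_zg (h : Rud W) {a z : G} (ha : a ∈ wg W) (hz : z ∈ zg W) : z * a = a * z := by
  obtain ⟨a, ha, rfl⟩ := ha
  obtain ⟨z, hz, rfl⟩ := hz
  exact congrArg Subtype.val (h.comm_phi ha hz)

theorem sq_zg (h : Rud W) {a : G} (ha : a ∈ wg W) : a ^ 2 ∈ zg W := by
  obtain ⟨a, ha, rfl⟩ := ha
  exact ⟨a ^ 2, h.sq_mem_phi ha, rfl⟩

theorem commutator_zg (h : Rud W) {a b : G} (ha : a ∈ wg W) (hb : b ∈ wg W) : ⁅a, b⁆ ∈ zg W := by
  obtain ⟨a, ha, rfl⟩ := ha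
  obtain ⟨b, hb, rfl⟩ := hb
  exact ⟨⁅a, b⁆, h.commutator_mem_phi ha hb, map_commutatorElement _ _ _⟩

theorem le_wg (h : Rud W) {X : Subgroup G} (hXT : X ≤ (T : Subgroup G)) (hX : 2 ^ 10 ≤ Nat.card X)
    (hsq : ∀ a ∈ X, ∀ x ∈ X, a ^ 2 * x = x * a ^ 2)
    (hcm : ∀ a ∈ X, ∀ b ∈ X, ∀ x ∈ X, ⁅a, b⁆ * x = x * ⁅a, b⁆) : X ≤ wg W := by
  intro a ha
  refine ⟨⟨a, hXT ha⟩, ?_, rfl⟩
  refine le_of_central h (X := X.subgroupOf (T : Subgroup G)) ?_ ?_ ?_ (mem_subgroupOf.2 ha)
  · rwa [Nat.card_congr (subgroupOfEquivOfLe hXT).toEquiv]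
  · intro a ha
    exact mem_centralizer_iff.2 fun x hx => Subtype.ext (by simpa using (hsq a ha x hx).symm)
  · intro a ha b hb
    exact mem_centralizer_iff.2 fun x hx => Subtype.ext
      (by simpa [commutatorElement_def] using (hcm a ha b hb x hx).symm)

/-- A conjugate in `T` of a large subgroup of `W` lies in `W`. -/
theorem conj_le_wg (h : Rud W) {U : Subgroup G} (hU : U ≤ wg W) (hc : 2 ^ 10 ≤ Nat.card U) (g : G)
    (hg : ∀ u ∈ U, g * u * g⁻¹ ∈ (T : Subgroup G)) : ∀ u ∈ U, g * u * g⁻¹ ∈ wg W := by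
  intro u hu
  refine le_wg h (X := U.map (MulAut.conj g).toMonoidHom) ?_ ?_ ?_ ?_ ⟨u, hu, rfl⟩
  · rintro _ ⟨v, hv, rfl⟩
    exact hg v hv
  · rwa [card_map_of_injective (MulAut.conj g).injective]
  · rintro _ ⟨a, ha, rfl⟩ _ ⟨x, hx, rfl⟩
    rw [← map_pow, ← map_mul, ← map_mul, comm_zg h (hU hx) (sq_zg h (hU ha))]
  · rintro _ ⟨a, ha, rfl⟩ _ ⟨b, hb, rfl⟩ _ ⟨x, hx, rfl⟩
    rw [← map_commutatorElement, ← map_mul, ← map_mul,
      comm_zg h (hU hx) (commutator_zg h (hU ha) (hU hb))]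

theorem mem_normalizer_of_conj (h : Rud W) {g : G}
    (hg : ∀ u ∈ wg W, g * u * g⁻¹ ∈ (T : Subgroup G)) : g ∈ normalizer (wg W : Set G) := by
  have h1 := conj_le_wg h le_rfl (by rw [card_wg h]; norm_num) g hg
  have heq : (wg W).map (MulAut.conj g).toMonoidHom = wg W := by
    refine eq_of_le_of_card_ge (by rintro _ ⟨u, hu, rfl⟩; exact h1 u hu) ?_
    rw [card_map_of_injective (MulAut.conj g).injective]
  refine mem_normalizer_iff.2 fun x => ⟨h1 x, fun hx => ?_⟩
  rw [← heq] at hx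
  obtain ⟨y, hy, e⟩ := hx
  exact mul_left_cancel (mul_right_cancel e) ▸ hy

theorem vanishG (h : Rud W) {U : Subgroup G} (hU : U ≤ wg W) (h8 : 2 ^ 8 ≤ Nat.card U)
    (f : G → ZMod 2) (hf : ∀ a ∈ U, ∀ b ∈ U, f (a * b) = f a + f b) {z : G} (hz : z ∈ zg W) :
    f z = 0 := by
  obtain ⟨z, hz, rfl⟩ := hz
  refine vanish h (U := U.subgroupOf (T : Subgroup G)) (fun a ha => ?_) ?_ (fun a => f a)
    (fun a ha b hb => hf a ha b hb) hz
  · obtain ⟨b, hb, e⟩ := hU ha
    exact Subtype.ext e ▸ hb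
  · rwa [Nat.card_congr (subgroupOfEquivOfLe (hU.trans (wg_le W))).toEquiv]

theorem mem_of_half {A M : Subgroup G} (hMA : M ≤ A) (hc : Nat.card A = 2 * Nat.card M) {a b : G}
    (ha : a ∈ A) (hb : b ∈ A) (ha' : a ∉ M) (hb' : b ∉ M) : a⁻¹ * b ∈ M := by
  have hidx : (M.subgroupOf A).index = 2 := by
    have h1 := card_mul_index (M.subgroupOf A)
    rw [Nat.card_congr (subgroupOfEquivOfLe hMA).toEquiv, hc, mul_comm 2] at h1
    exact mul_left_cancel₀ (Nat.card_pos).ne' h1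
  have := (mul_mem_iff_of_index_two hidx (a := (⟨a, ha⟩ : ↥A)⁻¹) (b := ⟨b, hb⟩)).2
    ⟨fun h => absurd (inv_mem_iff.1 h) ha', fun h => absurd h hb'⟩
  exact this

section

variable (h : Rud W) {f : G → ZMod 2}
  (hf : ∀ a ∈ normalizer (wg W : Set G), ∀ b ∈ normalizer (wg W : Set G), f (a * b) = f a + f b)
  (hW : ∀ w ∈ wg W, f w = 0)

include h hf in
theorem hfT : ∀ a ∈ (T : Subgroup G), ∀ b ∈ (T : Subgroup G), f (a * b) = f a + f b :=
  fun a ha b hb => hf a (wg_normalized h ha) b (wg_normalized h hb)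

include h hf hW in
theorem zero_of_invariant [DecidableEq (G ⧸ (T : Subgroup G))] (U : Subgroup G) (hU : U ≤ wg W)
    (h10 : 2 ^ 10 ≤ Nat.card U) (P : Finset (G ⧸ (T : Subgroup G))) :
    (∀ a ∈ U, ∀ q, q ∈ P ↔ a • q ∈ P) → ∀ e ∈ U, tsum' f P e = 0 := by
  induction P using Finset.strongInduction with
  | _ P ih =>
  intro hP e he
  rcases P.eq_empty_or_nonempty with rfl | ⟨q₀, hq₀⟩
  · simp [tsum']
  by_cases hfix : ∀ a ∈ U, a • q₀ = q₀
  · have h0 : cc f e q₀ = 0 := by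
      unfold cc
      rw [hfix e he]
      refine hW _ ?_
      have := conj_le_wg h hU h10 q₀.out⁻¹ (fun u hu => ?_) e he
      · rwa [inv_inv, mul_assoc] at this
      · have := mem_cc u q₀
        rw [hfix u hu] at this
        rwa [inv_inv, mul_assoc]
    have hinv : ∀ a ∈ U, ∀ q, q ∈ P.erase q₀ ↔ a • q ∈ P.erase q₀ := fun a ha q => by
      rw [Finset.mem_erase, Finset.mem_erase, ← hP a ha q]
      refine and_congr_left fun _ => not_congr ⟨fun e' => by rw [e', hfix a ha], fun e' => ?_⟩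
      exact MulAction.injective a (e'.trans (hfix a ha).symm)
    have hlt := Finset.erase_ssubset hq₀
    have hrest := ih _ hlt hinv e he
    unfold tsum' at hrest ⊢
    rw [← Finset.add_sum_erase _ _ hq₀, h0, hrest, add_zero]
  · push Not at hfix
    obtain ⟨a₀, ha₀, hmv⟩ := hfix
    obtain ⟨Q, Q₁, M, hq₁, hQ, hMU, hMc, hMsq, hMn, ⟨w, hw, hwM⟩, hh⟩ :=
      exists_halves (T.isPGroup'.to_le (hU.trans (wg_le W))) ha₀ hmv
    have hQP : Q ⊆ P := fun q hq => by
      obtain ⟨a, ha, rfl⟩ := (hQ q).1 hq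
      exact (hP a ha q₀).1 hq₀
    have hadd : ∀ a ∈ M, ∀ b ∈ M, tsum' f Q₁ (a * b) = tsum' f Q₁ a + tsum' f Q₁ b :=
      fun a _ b hb => tsum'_mul (hfT h hf) a b (hh.keep b hb)
    have h8 : 2 ^ 8 ≤ Nat.card M := by omega
    have hQ0 : tsum' f Q e = 0 := by
      by_cases heM : e ∈ M
      · rw [hh.sum_keep (hfT h hf) heM (hMU heM) hw hwM (hMn w hw e heM)]
        refine vanishG h (hMU.trans hU) h8 _ hadd ?_
        rw [show e * (w⁻¹ * e * w) = e ^ 2 * ⁅e⁻¹, w⁻¹⁆ by
          simp only [commutatorElement_def]; group]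
        exact mul_mem (sq_zg h (hU he)) (commutator_zg h (inv_mem (hU he)) (inv_mem (hU hw)))
      · rw [hh.sum_swap (hfT h hf) he heM]
        refine vanishG h (hMU.trans hU) h8 _ hadd ?_
        rw [← pow_two]
        exact sq_zg h (hU he)
    have hlt : P \ Q ⊂ P := Finset.sdiff_ssubset hQP ⟨q₀, hh.sub hq₁⟩
    have hrest := ih _ hlt (fun a ha q => by
      rw [Finset.mem_sdiff, Finset.mem_sdiff, ← hP a ha q, ← hh.inv a ha q]) e he
    rw [← Finset.union_sdiff_of_subset hQP, tsum'_union Finset.disjoint_sdiff, hQ0, hrest, add_zero]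

include h hf hW in
/-- A subgroup of index two of the normalizer of `W` containing `W` is excluded. -/
theorem no_quotient (h2 : ∀ H : Subgroup G, H.index ≠ 2) {t : G} (ht : t ∈ (T : Subgroup G))
    (ht2 : t * t ∈ wg W) (hft : f t = 1) : False := by
  classical
  haveI : Fintype (G ⧸ (T : Subgroup G)) := Fintype.ofFinite _
  set N := normalizer (wg W : Set G)
  have hWN : wg W ≤ N := le_normalizer
  have htN : t ∈ N := wg_normalized h ht
  set X := wg W ⊔ zpowers t with hX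
  have hXT : X ≤ (T : Subgroup G) := sup_le (wg_le W) (zpowers_le.2 ht)
  have hXN : X ≤ N := sup_le hWN (zpowers_le.2 htN)
  have hWX : wg W ≤ X := le_sup_left
  have htX : t ∈ X := le_sup_right (a := wg W) (mem_zpowers t)
  have key : ∀ P : Finset (G ⧸ (T : Subgroup G)), (∀ a ∈ X, ∀ q, q ∈ P ↔ a • q ∈ P) →
      (∀ q ∈ P, ∃ w ∈ wg W, w • q ≠ q) → tsum' f P t = 0 ∧ Even P.card := by
    intro P
    induction P using Finset.strongInduction with
    | _ P ih =>
    intro hP hmove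
    rcases P.eq_empty_or_nonempty with rfl | ⟨q₀, hq₀⟩
    · simp [tsum']
    obtain ⟨a₀, ha₀, hmv⟩ := hmove q₀ hq₀
    obtain ⟨Q, Q₁, M, hq₁, hQ, hMX, hMc, hMsq, hMn, ⟨u, hu, huM⟩, hh⟩ :=
      exists_halves (T.isPGroup'.to_le hXT) (hWX ha₀) hmv
    have hQP : Q ⊆ P := fun q hq => by
      obtain ⟨a, ha, rfl⟩ := (hQ q).1 hq
      exact (hP a ha q₀).1 hq₀
    have hUc : 2 ^ 10 ≤ Nat.card ↥(M ⊓ wg W) := by
      have h1 : Nat.card ↥(wg W) ≤ 2 * Nat.card ↥(M ⊓ wg W) :=
        card_le_two_mul fun a ha b hb hau hbu =>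
          ⟨mem_of_half hMX hMc (hWX ha) (hWX hb) (fun hm => hau ⟨hm, ha⟩) (fun hm => hbu ⟨hm, hb⟩),
            (wg W).mul_mem ((wg W).inv_mem ha) hb⟩
      rw [card_wg h] at h1
      omega
    have hQ₁ : ∀ a ∈ M ⊓ wg W, ∀ q, q ∈ Q₁ ↔ a • q ∈ Q₁ := fun a ha => hh.keep a ha.1
    have hQ0 : tsum' f Q t = 0 := by
      by_cases htM : t ∈ M
      · obtain ⟨w, hw, hwM⟩ : ∃ w ∈ wg W, w ∉ M := by
          by_contra hc
          push Not at hc
          exact huM ((show X ≤ M from sup_le hc (zpowers_le.2 htM)) hu)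
        rw [hh.sum_keep (hfT h hf) htM htX (hWX hw) hwM (hMn w (hWX hw) t htM)]
        refine zero_of_invariant h hf hW _ inf_le_right hUc Q₁ hQ₁ _
          ⟨mul_mem htM (hMn w (hWX hw) t htM), ?_⟩
        rw [show t * (w⁻¹ * t * w) = t * w⁻¹ * t⁻¹ * (t * t) * w by group]
        exact mul_mem (mul_mem ((mem_normalizer_iff.1 htN w⁻¹).1 (Subgroup.inv_mem _ hw)) ht2) hw
      · rw [hh.sum_swap (hfT h hf) htX htM]
        exact zero_of_invariant h hf hW _ inf_le_right hUc Q₁ hQ₁ _ ⟨hMsq t htX, ht2⟩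
    have hlt : P \ Q ⊂ P := Finset.sdiff_ssubset hQP ⟨q₀, hh.sub hq₁⟩
    obtain ⟨hr, hre⟩ := ih _ hlt (fun a ha q => by
      rw [Finset.mem_sdiff, Finset.mem_sdiff, ← hP a ha q, ← hh.inv a ha q])
      fun q hq => hmove q (Finset.mem_sdiff.1 hq).1
    constructor
    · rw [← Finset.union_sdiff_of_subset hQP, tsum'_union Finset.disjoint_sdiff, hQ0, hr, add_zero]
    · rw [← Finset.card_sdiff_add_card_eq_card hQP]
      exact hre.add (hh.card_even hu huM)
  set Ω₀ : Finset (G ⧸ (T : Subgroup G)) := Finset.univ.filter (fun q => ∀ w ∈ wg W, w • q = q)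
  have hΩ : ∀ q, q ∈ Ω₀ ↔ ∀ w ∈ wg W, w • q = q := fun q => by simp [Ω₀]
  have hinv : ∀ a ∈ X, ∀ q, q ∈ Ω₀ ↔ a • q ∈ Ω₀ := by
    intro a ha q
    rw [hΩ, hΩ]
    constructor
    · intro hq w hw
      have h1 : (a⁻¹ * w * a) • q = q := hq _ (by
        have := (mem_normalizer_iff.1 (inv_mem (hXN ha)) w).1 hw
        rwa [inv_inv] at this)
      calc w • a • q = a • (a⁻¹ * w * a) • q := by simp only [← mul_smul]; congr 1; group
        _ = a • q := by rw [h1]
    · intro hq w hw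
      have h1 := hq _ ((mem_normalizer_iff.1 (hXN ha) w).1 hw)
      rw [← mul_smul, show a * w * a⁻¹ * a = a * w by group, mul_smul] at h1
      exact MulAction.injective a h1
  obtain ⟨h1, h1e⟩ := key (Finset.univ \ Ω₀)
    (fun a ha q => by simp only [Finset.mem_sdiff, Finset.mem_univ, true_and, ← hinv a ha q])
    (fun q hq => by
      simp only [Finset.mem_sdiff, Finset.mem_univ, true_and, hΩ] at hq
      push Not at hq
      exact hq)
  -- the cosets fixed by `W`
  have hout : ∀ q ∈ Ω₀, q.out ∈ N := by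
    intro q hq
    refine inv_mem_iff.1 (mem_normalizer_of_conj h fun w hw => ?_)
    have h3 := mem_cc w q
    rw [(hΩ q).1 hq w hw] at h3
    rwa [inv_inv, mul_assoc]
  have h0 : tsum' f Ω₀ t = (Ω₀.card : ZMod 2) := by
    have he : ∀ q ∈ Ω₀, cc f t q = f ((t • q).out) + f q.out + 1 := by
      intro q hq
      have hb := hout q hq
      have ha := hout _ ((hinv t htX q).1 hq)
      have hone : f 1 = 0 := by simpa using hf 1 (one_mem _) 1 (one_mem _)
      have hia : f ((t • q).out⁻¹) = f (t • q).out := by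
        have := hf _ ha _ (inv_mem ha)
        rw [mul_inv_cancel, hone] at this
        exact ((CharTwo.add_eq_zero).1 this.symm).symm
      unfold cc
      rw [hf _ (inv_mem ha) _ (mul_mem htN hb), hf _ htN _ hb, hia, hft]
      ring
    unfold tsum'
    rw [Finset.sum_congr rfl he, Finset.sum_add_distrib, Finset.sum_add_distrib,
      sum_smul t (hinv t htX) (fun q => f q.out), CharTwo.add_self_eq_zero, zero_add,
      Finset.sum_const, nsmul_one]
  have hodd : Odd Ω₀.card := by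
    have hc : Odd (Fintype.card (G ⧸ (T : Subgroup G))) := by
      rw [← Nat.card_eq_fintype_card, ← index_eq_card]
      exact Nat.not_even_iff_odd.1 fun he => T.not_dvd_index (even_iff_two_dvd.1 he)
    rw [← Finset.card_univ, ← Finset.card_sdiff_add_card_eq_card (Finset.subset_univ Ω₀)] at hc
    exact Nat.not_even_iff_odd.1 fun he => Nat.not_even_iff_odd.2 hc (h1e.add he)
  have hall : tsum' f (Finset.univ : Finset (G ⧸ (T : Subgroup G))) t = 1 := by
    rw [← Finset.union_sdiff_of_subset (Finset.subset_univ Ω₀),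
      tsum'_union Finset.disjoint_sdiff, h1, h0, add_zero, (ZMod.natCast_eq_one_iff_odd).2 hodd]
  let φ : G →* Multiplicative (ZMod 2) :=
    MonoidHom.mk' (fun x => Multiplicative.ofAdd
      (tsum' f (Finset.univ : Finset (G ⧸ (T : Subgroup G))) x)) fun x y => by
        rw [tsum'_mul (hfT h hf) x y (fun q => by simp), ofAdd_add]
  refine h2 φ.ker ?_
  rw [index_ker]
  have : φ.range = ⊤ := by
    rw [MonoidHom.range_eq_top]
    intro v
    rcases (by decide : ∀ v : ZMod 2, v = 0 ∨ v = 1) (Multiplicative.toAdd v) with hv | hv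
    · exact ⟨1, by rw [map_one]; exact Multiplicative.toAdd.injective hv.symm⟩
    · exact ⟨t, by apply Multiplicative.toAdd.injective; simpa [φ, hv] using hall⟩
  rw [this, card_top, Nat.card_congr Multiplicative.toAdd, Nat.card_zmod]

end

end CfsgLib.RudNormal
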